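import Cfsg.Agent.Lib.Helper5.HNCert.Code

/-! # generated: certificates of the back end -/

set_option autoImplicit false
set_option maxRecDepth 1000000
set_option maxHeartbeats 40000000

namespace Cfsg.Agent.Lib.Helper5.HNCert

open Cfsg.Agent.Lib.Helper6.TC Cfsg.Agent.Lib.Helper6.NatArr Cfsg.Agent.Lib.Helper5.HNBack Cfsg.Agent.Lib.Lead.HNP.HNTC

theorem chk_cnt1_0 : cntF (inOrb codeT 1) (0 + 0 * 20480) 20480 = 904 := by
  have h : cntLeaves codeT 1 0 20 = 904 := by decide +kernel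
  rw [cntLeaves_eq] at h
  exact h

theorem chk_cnt1_1 : cntF (inOrb codeT 1) (0 + 1 * 20480) 20480 = 504 := by
  have h : cntLeaves codeT 1 20 20 = 504 := by decide +kernel
  rw [cntLeaves_eq] at h
  exact h

theorem chk_cnt1_2 : cntF (inOrb codeT 1) (0 + 2 * 20480) 20480 = 0 := by
  have h : cntLeaves codeT 1 40 20 = 0 := by decide +kernel
  rw [cntLeaves_eq] at h
  exact h

theorem chk_cnt1_3 : cntF (inOrb codeT 1) (0 + 3 * 20480) 20480 = 0 := by
  have h : cntLeaves codeT 1 60 20 = 0 := by decide +kernel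
  rw [cntLeaves_eq] at h
  exact h

theorem chk_cnt1_4 : cntF (inOrb codeT 1) (0 + 4 * 20480) 20480 = 0 := by
  have h : cntLeaves codeT 1 80 20 = 0 := by decide +kernel
  rw [cntLeaves_eq] at h
  exact h

theorem chk_cnt1_5 : cntF (inOrb codeT 1) (0 + 5 * 20480) 20480 = 0 := by
  have h : cntLeaves codeT 1 100 20 = 0 := by decide +kernel
  rw [cntLeaves_eq] at h
  exact h

theorem chk_cnt1_6 : cntF (inOrb codeT 1) (0 + 6 * 20480) 20480 = 0 := by
  have h : cntLeaves codeT 1 120 20 = 0 := by decide +kernel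
  rw [cntLeaves_eq] at h
  exact h

theorem chk_cnt1_7 : cntF (inOrb codeT 1) (0 + 7 * 20480) 20480 = 0 := by
  have h : cntLeaves codeT 1 140 20 = 0 := by decide +kernel
  rw [cntLeaves_eq] at h
  exact h

theorem chk_cnt1_8 : cntF (inOrb codeT 1) (0 + 8 * 20480) 20480 = 0 := by
  have h : cntLeaves codeT 1 160 20 = 0 := by decide +kernel
  rw [cntLeaves_eq] at h
  exact h

theorem chk_cnt1_9 : cntF (inOrb codeT 1) (0 + 9 * 20480) 20480 = 0 := by
  have h : cntLeaves codeT 1 180 20 = 0 := by decide +kernel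
  rw [cntLeaves_eq] at h
  exact h

theorem chk_cnt1_10 : cntF (inOrb codeT 1) (0 + 10 * 20480) 20480 = 0 := by
  have h : cntLeaves codeT 1 200 20 = 0 := by decide +kernel
  rw [cntLeaves_eq] at h
  exact h

theorem chk_cnt1_11 : cntF (inOrb codeT 1) (0 + 11 * 20480) 20480 = 0 := by
  have h : cntLeaves codeT 1 220 20 = 0 := by decide +kernel
  rw [cntLeaves_eq] at h
  exact h

theorem chk_cnt1_12 : cntF (inOrb codeT 1) (0 + 12 * 20480) 20480 = 0 := by
  have h : cntLeaves codeT 1 240 20 = 0 := by decide +kernel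
  rw [cntLeaves_eq] at h
  exact h

theorem chk_cnt1_13 : cntF (inOrb codeT 1) (0 + 13 * 20480) 20480 = 0 := by
  have h : cntLeaves codeT 1 260 20 = 0 := by decide +kernel
  rw [cntLeaves_eq] at h
  exact h

theorem chk_cnt1_14 : cntF (inOrb codeT 1) (0 + 14 * 20480) 20480 = 0 := by
  have h : cntLeaves codeT 1 280 20 = 0 := by decide +kernel
  rw [cntLeaves_eq] at h
  exact h

theorem chk_cnt1_15 : cntF (inOrb codeT 1) (0 + 15 * 20480) 20480 = 0 := by
  have h : cntLeaves codeT 1 300 20 = 0 := by decide +kernel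
  rw [cntLeaves_eq] at h
  exact h

theorem chk_cnt1_16 : cntF (inOrb codeT 1) (0 + 16 * 20480) 20480 = 0 := by
  have h : cntLeaves codeT 1 320 20 = 0 := by decide +kernel
  rw [cntLeaves_eq] at h
  exact h

theorem chk_cnt1_17 : cntF (inOrb codeT 1) (0 + 17 * 20480) 20480 = 0 := by
  have h : cntLeaves codeT 1 340 20 = 0 := by decide +kernel
  rw [cntLeaves_eq] at h
  exact h

theorem chk_cnt1_18 : cntF (inOrb codeT 1) (0 + 18 * 20480) 20480 = 0 := by
  have h : cntLeaves codeT 1 360 20 = 0 := by decide +kernel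
  rw [cntLeaves_eq] at h
  exact h

theorem chk_cnt1_19 : cntF (inOrb codeT 1) (0 + 19 * 20480) 20480 = 0 := by
  have h : cntLeaves codeT 1 380 20 = 0 := by decide +kernel
  rw [cntLeaves_eq] at h
  exact h

theorem chk_cnt1_20 : cntF (inOrb codeT 1) (0 + 20 * 20480) 20480 = 0 := by
  have h : cntLeaves codeT 1 400 20 = 0 := by decide +kernel
  rw [cntLeaves_eq] at h
  exact h

theorem chk_cnt1_21 : cntF (inOrb codeT 1) (0 + 21 * 20480) 20480 = 0 := by
  have h : cntLeaves codeT 1 420 20 = 0 := by decide +kernel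
  rw [cntLeaves_eq] at h
  exact h

theorem chk_cnt1_22 : cntF (inOrb codeT 1) (0 + 22 * 20480) 20480 = 0 := by
  have h : cntLeaves codeT 1 440 20 = 0 := by decide +kernel
  rw [cntLeaves_eq] at h
  exact h

theorem chk_cnt1_23 : cntF (inOrb codeT 1) (0 + 23 * 20480) 20480 = 0 := by
  have h : cntLeaves codeT 1 460 20 = 0 := by decide +kernel
  rw [cntLeaves_eq] at h
  exact h

theorem chk_cnt1_24 : cntF (inOrb codeT 1) (0 + 24 * 20480) 20480 = 0 := by
  have h : cntLeaves codeT 1 480 20 = 0 := by decide +kernel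
  rw [cntLeaves_eq] at h
  exact h

theorem chk_cnt1_25 : cntF (inOrb codeT 1) (0 + 25 * 20480) 20480 = 0 := by
  have h : cntLeaves codeT 1 500 20 = 0 := by decide +kernel
  rw [cntLeaves_eq] at h
  exact h

theorem chk_cnt1_26 : cntF (inOrb codeT 1) (0 + 26 * 20480) 20480 = 0 := by
  have h : cntLeaves codeT 1 520 20 = 0 := by decide +kernel
  rw [cntLeaves_eq] at h
  exact h

theorem chk_cnt1_27 : cntF (inOrb codeT 1) (0 + 27 * 20480) 20480 = 0 := by
  have h : cntLeaves codeT 1 540 20 = 0 := by decide +kernel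
  rw [cntLeaves_eq] at h
  exact h

theorem chk_cnt1_28 : cntF (inOrb codeT 1) (0 + 28 * 20480) 20480 = 0 := by
  have h : cntLeaves codeT 1 560 20 = 0 := by decide +kernel
  rw [cntLeaves_eq] at h
  exact h

theorem chk_cnt1_29 : cntF (inOrb codeT 1) (0 + 29 * 20480) 20480 = 0 := by
  have h : cntLeaves codeT 1 580 20 = 0 := by decide +kernel
  rw [cntLeaves_eq] at h
  exact h

theorem chk_cnt1_30 : cntF (inOrb codeT 1) (0 + 30 * 20480) 20480 = 0 := by
  have h : cntLeaves codeT 1 600 20 = 0 := by decide +kernel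
  rw [cntLeaves_eq] at h
  exact h

theorem chk_cnt1_31 : cntF (inOrb codeT 1) (0 + 31 * 20480) 20480 = 0 := by
  have h : cntLeaves codeT 1 620 20 = 0 := by decide +kernel
  rw [cntLeaves_eq] at h
  exact h

theorem chk_cnt1_32 : cntF (inOrb codeT 1) (0 + 32 * 20480) 20480 = 0 := by
  have h : cntLeaves codeT 1 640 20 = 0 := by decide +kernel
  rw [cntLeaves_eq] at h
  exact h

theorem chk_cnt1_33 : cntF (inOrb codeT 1) (0 + 33 * 20480) 20480 = 0 := by
  have h : cntLeaves codeT 1 660 20 = 0 := by decide +kernel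
  rw [cntLeaves_eq] at h
  exact h

theorem chk_cnt1_34 : cntF (inOrb codeT 1) (0 + 34 * 20480) 20480 = 0 := by
  have h : cntLeaves codeT 1 680 20 = 0 := by decide +kernel
  rw [cntLeaves_eq] at h
  exact h

theorem chk_cnt1_35 : cntF (inOrb codeT 1) (0 + 35 * 20480) 20480 = 0 := by
  have h : cntLeaves codeT 1 700 20 = 0 := by decide +kernel
  rw [cntLeaves_eq] at h
  exact h

theorem chk_cnt1_36 : cntF (inOrb codeT 1) (0 + 36 * 20480) 20480 = 0 := by
  have h : cntLeaves codeT 1 720 20 = 0 := by decide +kernel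
  rw [cntLeaves_eq] at h
  exact h

theorem chk_cnt1_37 : cntF (inOrb codeT 1) (0 + 37 * 20480) 20480 = 0 := by
  have h : cntLeaves codeT 1 740 20 = 0 := by decide +kernel
  rw [cntLeaves_eq] at h
  exact h

theorem chk_cnt1_38 : cntF (inOrb codeT 1) (0 + 38 * 20480) 20480 = 0 := by
  have h : cntLeaves codeT 1 760 20 = 0 := by decide +kernel
  rw [cntLeaves_eq] at h
  exact h

theorem chk_cnt1_39 : cntF (inOrb codeT 1) (0 + 39 * 20480) 20480 = 0 := by
  have h : cntLeaves codeT 1 780 20 = 0 := by decide +kernel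
  rw [cntLeaves_eq] at h
  exact h

theorem chk_cnt1_40 : cntF (inOrb codeT 1) (0 + 40 * 20480) 20480 = 0 := by
  have h : cntLeaves codeT 1 800 20 = 0 := by decide +kernel
  rw [cntLeaves_eq] at h
  exact h

theorem chk_cnt1_41 : cntF (inOrb codeT 1) (0 + 41 * 20480) 20480 = 0 := by
  have h : cntLeaves codeT 1 820 20 = 0 := by decide +kernel
  rw [cntLeaves_eq] at h
  exact h

theorem chk_cnt1_42 : cntF (inOrb codeT 1) (0 + 42 * 20480) 20480 = 0 := by
  have h : cntLeaves codeT 1 840 20 = 0 := by decide +kernel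
  rw [cntLeaves_eq] at h
  exact h

theorem chk_cnt1_43 : cntF (inOrb codeT 1) (0 + 43 * 20480) 20480 = 0 := by
  have h : cntLeaves codeT 1 860 20 = 0 := by decide +kernel
  rw [cntLeaves_eq] at h
  exact h

theorem chk_cnt1_44 : cntF (inOrb codeT 1) (0 + 44 * 20480) 20480 = 0 := by
  have h : cntLeaves codeT 1 880 20 = 0 := by decide +kernel
  rw [cntLeaves_eq] at h
  exact h

theorem chk_cnt1_45 : cntF (inOrb codeT 1) (0 + 45 * 20480) 20480 = 0 := by
  have h : cntLeaves codeT 1 900 20 = 0 := by decide +kernel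
  rw [cntLeaves_eq] at h
  exact h

theorem chk_cnt1_46 : cntF (inOrb codeT 1) (0 + 46 * 20480) 20480 = 0 := by
  have h : cntLeaves codeT 1 920 20 = 0 := by decide +kernel
  rw [cntLeaves_eq] at h
  exact h

theorem chk_cnt1_47 : cntF (inOrb codeT 1) (0 + 47 * 20480) 20480 = 0 := by
  have h : cntLeaves codeT 1 940 20 = 0 := by decide +kernel
  rw [cntLeaves_eq] at h
  exact h

theorem chk_cnt1_48 : cntF (inOrb codeT 1) (0 + 48 * 20480) 20480 = 0 := by
  have h : cntLeaves codeT 1 960 20 = 0 := by decide +kernel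
  rw [cntLeaves_eq] at h
  exact h

theorem chk_cnt1_49 : cntF (inOrb codeT 1) (0 + 49 * 20480) 20480 = 0 := by
  have h : cntLeaves codeT 1 980 20 = 0 := by decide +kernel
  rw [cntLeaves_eq] at h
  exact h

theorem chk_cnt1_50 : cntF (inOrb codeT 1) (0 + 50 * 20480) 20480 = 0 := by
  have h : cntLeaves codeT 1 1000 20 = 0 := by decide +kernel
  rw [cntLeaves_eq] at h
  exact h

theorem chk_cnt1_51 : cntF (inOrb codeT 1) (0 + 51 * 20480) 20480 = 0 := by
  have h : cntLeaves codeT 1 1020 20 = 0 := by decide +kernel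
  rw [cntLeaves_eq] at h
  exact h

theorem chk_cnt1_52 : cntF (inOrb codeT 1) (0 + 52 * 20480) 20480 = 0 := by
  have h : cntLeaves codeT 1 1040 20 = 0 := by decide +kernel
  rw [cntLeaves_eq] at h
  exact h

theorem chk_cnt1_53 : cntF (inOrb codeT 1) (0 + 53 * 20480) 20480 = 0 := by
  have h : cntLeaves codeT 1 1060 20 = 0 := by decide +kernel
  rw [cntLeaves_eq] at h
  exact h

theorem chk_cnt1_54 : cntF (inOrb codeT 1) (0 + 54 * 20480) 20480 = 0 := by
  have h : cntLeaves codeT 1 1080 20 = 0 := by decide +kernel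
  rw [cntLeaves_eq] at h
  exact h

theorem chk_cnt1_55 : cntF (inOrb codeT 1) (0 + 55 * 20480) 20480 = 0 := by
  have h : cntLeaves codeT 1 1100 20 = 0 := by decide +kernel
  rw [cntLeaves_eq] at h
  exact h

theorem chk_cnt1_56 : cntF (inOrb codeT 1) (0 + 56 * 20480) 20480 = 0 := by
  have h : cntLeaves codeT 1 1120 20 = 0 := by decide +kernel
  rw [cntLeaves_eq] at h
  exact h

theorem chk_cnt1_57 : cntF (inOrb codeT 1) (0 + 57 * 20480) 20480 = 0 := by
  have h : cntLeaves codeT 1 1140 20 = 0 := by decide +kernel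
  rw [cntLeaves_eq] at h
  exact h

theorem chk_cnt1_58 : cntF (inOrb codeT 1) (0 + 58 * 20480) 20480 = 0 := by
  have h : cntLeaves codeT 1 1160 20 = 0 := by decide +kernel
  rw [cntLeaves_eq] at h
  exact h

theorem chk_cnt1_59 : cntF (inOrb codeT 1) (0 + 59 * 20480) 20480 = 0 := by
  have h : cntLeaves codeT 1 1180 20 = 0 := by decide +kernel
  rw [cntLeaves_eq] at h
  exact h

theorem chk_cnt1_60 : cntF (inOrb codeT 1) (0 + 60 * 20480) 20480 = 0 := by
  have h : cntLeaves codeT 1 1200 20 = 0 := by decide +kernel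
  rw [cntLeaves_eq] at h
  exact h

theorem chk_cnt1_61 : cntF (inOrb codeT 1) (0 + 61 * 20480) 20480 = 0 := by
  have h : cntLeaves codeT 1 1220 20 = 0 := by decide +kernel
  rw [cntLeaves_eq] at h
  exact h

theorem chk_cnt1_62 : cntF (inOrb codeT 1) (0 + 62 * 20480) 20480 = 0 := by
  have h : cntLeaves codeT 1 1240 20 = 0 := by decide +kernel
  rw [cntLeaves_eq] at h
  exact h

theorem chk_cnt1_63 : cntF (inOrb codeT 1) (0 + 63 * 20480) 20480 = 0 := by
  have h : cntLeaves codeT 1 1260 20 = 0 := by decide +kernel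
  rw [cntLeaves_eq] at h
  exact h

theorem chk_cnt1_64 : cntF (inOrb codeT 1) (0 + 64 * 20480) 20480 = 0 := by
  have h : cntLeaves codeT 1 1280 20 = 0 := by decide +kernel
  rw [cntLeaves_eq] at h
  exact h

theorem chk_cnt1_65 : cntF (inOrb codeT 1) (0 + 65 * 20480) 20480 = 0 := by
  have h : cntLeaves codeT 1 1300 20 = 0 := by decide +kernel
  rw [cntLeaves_eq] at h
  exact h

theorem chk_cnt1_66 : cntF (inOrb codeT 1) (0 + 66 * 20480) 20480 = 0 := by
  have h : cntLeaves codeT 1 1320 20 = 0 := by decide +kernel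
  rw [cntLeaves_eq] at h
  exact h

theorem chk_cnt1_67 : cntF (inOrb codeT 1) (0 + 67 * 20480) 20480 = 0 := by
  have h : cntLeaves codeT 1 1340 20 = 0 := by decide +kernel
  rw [cntLeaves_eq] at h
  exact h

theorem chk_cnt1_68 : cntF (inOrb codeT 1) (0 + 68 * 20480) 20480 = 0 := by
  have h : cntLeaves codeT 1 1360 20 = 0 := by decide +kernel
  rw [cntLeaves_eq] at h
  exact h

theorem chk_cnt1_69 : cntF (inOrb codeT 1) (0 + 69 * 20480) 20480 = 0 := by
  have h : cntLeaves codeT 1 1380 20 = 0 := by decide +kernel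
  rw [cntLeaves_eq] at h
  exact h

theorem chk_cnt1_70 : cntF (inOrb codeT 1) (0 + 70 * 20480) 20480 = 0 := by
  have h : cntLeaves codeT 1 1400 20 = 0 := by decide +kernel
  rw [cntLeaves_eq] at h
  exact h

theorem chk_cnt1_71 : cntF (inOrb codeT 1) (0 + 71 * 20480) 20480 = 0 := by
  have h : cntLeaves codeT 1 1420 20 = 0 := by decide +kernel
  rw [cntLeaves_eq] at h
  exact h

theorem chk_cnt1_72 : cntF (inOrb codeT 1) (0 + 72 * 20480) 20480 = 0 := by
  have h : cntLeaves codeT 1 1440 20 = 0 := by decide +kernel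
  rw [cntLeaves_eq] at h
  exact h

theorem chk_cnt1_73 : cntF (inOrb codeT 1) (0 + 73 * 20480) 20480 = 0 := by
  have h : cntLeaves codeT 1 1460 20 = 0 := by decide +kernel
  rw [cntLeaves_eq] at h
  exact h

theorem chk_cnt1_74 : cntF (inOrb codeT 1) (0 + 74 * 20480) 20480 = 0 := by
  have h : cntLeaves codeT 1 1480 20 = 0 := by decide +kernel
  rw [cntLeaves_eq] at h
  exact h

theorem chk_cnt1_last : cntF (inOrb codeT 1) (0 + 75 * 20480) 3000 = 0 := by decide +kernel

theorem cnt1 : cntF (inOrb codeT 1) 0 1539000 = 1408 := by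
  have e : (1539000 : ℕ) = ([904, 504, 0, 0, 0, 0, 0, 0, 0, 0, 0, 0, 0, 0, 0, 0, 0, 0, 0, 0, 0, 0, 0, 0, 0, 0, 0, 0, 0, 0, 0, 0, 0, 0, 0, 0, 0, 0, 0, 0, 0, 0, 0, 0, 0, 0, 0, 0, 0, 0, 0, 0, 0, 0, 0, 0, 0, 0, 0, 0, 0, 0, 0, 0, 0, 0, 0, 0, 0, 0, 0, 0, 0, 0, 0] : List ℕ).length * 20480 + 3000 := by norm_num
  rw [e, cntF_add, cntF_of_chunks (inOrb codeT 1) 20480 [904, 504, 0, 0, 0, 0, 0, 0, 0, 0, 0, 0, 0, 0, 0, 0, 0, 0, 0, 0, 0, 0, 0, 0, 0, 0, 0, 0, 0, 0, 0, 0, 0, 0, 0, 0, 0, 0, 0, 0, 0, 0, 0, 0, 0, 0, 0, 0, 0, 0, 0, 0, 0, 0, 0, 0, 0, 0, 0, 0, 0, 0, 0, 0, 0, 0, 0, 0, 0, 0, 0, 0, 0, 0, 0] 0 ?_]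
  · have e2 : 0 + ([904, 504, 0, 0, 0, 0, 0, 0, 0, 0, 0, 0, 0, 0, 0, 0, 0, 0, 0, 0, 0, 0, 0, 0, 0, 0, 0, 0, 0, 0, 0, 0, 0, 0, 0, 0, 0, 0, 0, 0, 0, 0, 0, 0, 0, 0, 0, 0, 0, 0, 0, 0, 0, 0, 0, 0, 0, 0, 0, 0, 0, 0, 0, 0, 0, 0, 0, 0, 0, 0, 0, 0, 0, 0, 0] : List ℕ).length * 20480 = 0 + 75 * 20480 := by norm_num
    rw [e2, chk_cnt1_last]
    norm_num
  · intro k hk
    have hk' : k < 75 := by simpa using hk
    interval_cases k
    · exact chk_cnt1_0
    · exact chk_cnt1_1
    · exact chk_cnt1_2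
    · exact chk_cnt1_3
    · exact chk_cnt1_4
    · exact chk_cnt1_5
    · exact chk_cnt1_6
    · exact chk_cnt1_7
    · exact chk_cnt1_8
    · exact chk_cnt1_9
    · exact chk_cnt1_10
    · exact chk_cnt1_11
    · exact chk_cnt1_12
    · exact chk_cnt1_13
    · exact chk_cnt1_14
    · exact chk_cnt1_15
    · exact chk_cnt1_16
    · exact chk_cnt1_17
    · exact chk_cnt1_18
    · exact chk_cnt1_19
    · exact chk_cnt1_20
    · exact chk_cnt1_21
    · exact chk_cnt1_22
    · exact chk_cnt1_23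
    · exact chk_cnt1_24
    · exact chk_cnt1_25
    · exact chk_cnt1_26
    · exact chk_cnt1_27
    · exact chk_cnt1_28
    · exact chk_cnt1_29
    · exact chk_cnt1_30
    · exact chk_cnt1_31
    · exact chk_cnt1_32
    · exact chk_cnt1_33
    · exact chk_cnt1_34
    · exact chk_cnt1_35
    · exact chk_cnt1_36
    · exact chk_cnt1_37
    · exact chk_cnt1_38
    · exact chk_cnt1_39
    · exact chk_cnt1_40
    · exact chk_cnt1_41
    · exact chk_cnt1_42
    · exact chk_cnt1_43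
    · exact chk_cnt1_44
    · exact chk_cnt1_45
    · exact chk_cnt1_46
    · exact chk_cnt1_47
    · exact chk_cnt1_48
    · exact chk_cnt1_49
    · exact chk_cnt1_50
    · exact chk_cnt1_51
    · exact chk_cnt1_52
    · exact chk_cnt1_53
    · exact chk_cnt1_54
    · exact chk_cnt1_55
    · exact chk_cnt1_56
    · exact chk_cnt1_57
    · exact chk_cnt1_58
    · exact chk_cnt1_59
    · exact chk_cnt1_60
    · exact chk_cnt1_61
    · exact chk_cnt1_62
    · exact chk_cnt1_63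
    · exact chk_cnt1_64
    · exact chk_cnt1_65
    · exact chk_cnt1_66
    · exact chk_cnt1_67
    · exact chk_cnt1_68
    · exact chk_cnt1_69
    · exact chk_cnt1_70
    · exact chk_cnt1_71
    · exact chk_cnt1_72
    · exact chk_cnt1_73
    · exact chk_cnt1_74

end Cfsg.Agent.Lib.Helper5.HNCert
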