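import Cfsg.Agent.Lib.Helper5.HNCert.Code

/-! # generated: certificates of the back end -/

set_option autoImplicit false
set_option maxRecDepth 1000000
set_option maxHeartbeats 40000000

namespace Cfsg.Agent.Lib.Helper5.HNCert

open Cfsg.Agent.Lib.Helper6.TC Cfsg.Agent.Lib.Helper6.NatArr Cfsg.Agent.Lib.Helper5.HNBack Cfsg.Agent.Lib.Lead.HNP.HNTC

theorem chk_cnt2_0 : cntF (inOrb codeT 2) (0 + 0 * 20480) 20480 = 8190 := by
  have h : cntLeaves codeT 2 0 20 = 8190 := by decide +kernel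
  rw [cntLeaves_eq] at h
  exact h

theorem chk_cnt2_1 : cntF (inOrb codeT 2) (0 + 1 * 20480) 20480 = 2397 := by
  have h : cntLeaves codeT 2 20 20 = 2397 := by decide +kernel
  rw [cntLeaves_eq] at h
  exact h

theorem chk_cnt2_2 : cntF (inOrb codeT 2) (0 + 2 * 20480) 20480 = 4096 := by
  have h : cntLeaves codeT 2 40 20 = 4096 := by decide +kernel
  rw [cntLeaves_eq] at h
  exact h

theorem chk_cnt2_3 : cntF (inOrb codeT 2) (0 + 3 * 20480) 20480 = 4096 := by
  have h : cntLeaves codeT 2 60 20 = 4096 := by decide +kernel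
  rw [cntLeaves_eq] at h
  exact h

theorem chk_cnt2_4 : cntF (inOrb codeT 2) (0 + 4 * 20480) 20480 = 4096 := by
  have h : cntLeaves codeT 2 80 20 = 4096 := by decide +kernel
  rw [cntLeaves_eq] at h
  exact h

theorem chk_cnt2_5 : cntF (inOrb codeT 2) (0 + 5 * 20480) 20480 = 4096 := by
  have h : cntLeaves codeT 2 100 20 = 4096 := by decide +kernel
  rw [cntLeaves_eq] at h
  exact h

theorem chk_cnt2_6 : cntF (inOrb codeT 2) (0 + 6 * 20480) 20480 = 4096 := by
  have h : cntLeaves codeT 2 120 20 = 4096 := by decide +kernel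
  rw [cntLeaves_eq] at h
  exact h

theorem chk_cnt2_7 : cntF (inOrb codeT 2) (0 + 7 * 20480) 20480 = 4096 := by
  have h : cntLeaves codeT 2 140 20 = 4096 := by decide +kernel
  rw [cntLeaves_eq] at h
  exact h

theorem chk_cnt2_8 : cntF (inOrb codeT 2) (0 + 8 * 20480) 20480 = 37 := by
  have h : cntLeaves codeT 2 160 20 = 37 := by decide +kernel
  rw [cntLeaves_eq] at h
  exact h

theorem chk_cnt2_9 : cntF (inOrb codeT 2) (0 + 9 * 20480) 20480 = 0 := by
  have h : cntLeaves codeT 2 180 20 = 0 := by decide +kernel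
  rw [cntLeaves_eq] at h
  exact h

theorem chk_cnt2_10 : cntF (inOrb codeT 2) (0 + 10 * 20480) 20480 = 0 := by
  have h : cntLeaves codeT 2 200 20 = 0 := by decide +kernel
  rw [cntLeaves_eq] at h
  exact h

theorem chk_cnt2_11 : cntF (inOrb codeT 2) (0 + 11 * 20480) 20480 = 0 := by
  have h : cntLeaves codeT 2 220 20 = 0 := by decide +kernel
  rw [cntLeaves_eq] at h
  exact h

theorem chk_cnt2_12 : cntF (inOrb codeT 2) (0 + 12 * 20480) 20480 = 0 := by
  have h : cntLeaves codeT 2 240 20 = 0 := by decide +kernel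
  rw [cntLeaves_eq] at h
  exact h

theorem chk_cnt2_13 : cntF (inOrb codeT 2) (0 + 13 * 20480) 20480 = 0 := by
  have h : cntLeaves codeT 2 260 20 = 0 := by decide +kernel
  rw [cntLeaves_eq] at h
  exact h

theorem chk_cnt2_14 : cntF (inOrb codeT 2) (0 + 14 * 20480) 20480 = 0 := by
  have h : cntLeaves codeT 2 280 20 = 0 := by decide +kernel
  rw [cntLeaves_eq] at h
  exact h

theorem chk_cnt2_15 : cntF (inOrb codeT 2) (0 + 15 * 20480) 20480 = 0 := by
  have h : cntLeaves codeT 2 300 20 = 0 := by decide +kernel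
  rw [cntLeaves_eq] at h
  exact h

theorem chk_cnt2_16 : cntF (inOrb codeT 2) (0 + 16 * 20480) 20480 = 0 := by
  have h : cntLeaves codeT 2 320 20 = 0 := by decide +kernel
  rw [cntLeaves_eq] at h
  exact h

theorem chk_cnt2_17 : cntF (inOrb codeT 2) (0 + 17 * 20480) 20480 = 0 := by
  have h : cntLeaves codeT 2 340 20 = 0 := by decide +kernel
  rw [cntLeaves_eq] at h
  exact h

theorem chk_cnt2_18 : cntF (inOrb codeT 2) (0 + 18 * 20480) 20480 = 0 := by
  have h : cntLeaves codeT 2 360 20 = 0 := by decide +kernel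
  rw [cntLeaves_eq] at h
  exact h

theorem chk_cnt2_19 : cntF (inOrb codeT 2) (0 + 19 * 20480) 20480 = 0 := by
  have h : cntLeaves codeT 2 380 20 = 0 := by decide +kernel
  rw [cntLeaves_eq] at h
  exact h

theorem chk_cnt2_20 : cntF (inOrb codeT 2) (0 + 20 * 20480) 20480 = 0 := by
  have h : cntLeaves codeT 2 400 20 = 0 := by decide +kernel
  rw [cntLeaves_eq] at h
  exact h

theorem chk_cnt2_21 : cntF (inOrb codeT 2) (0 + 21 * 20480) 20480 = 0 := by
  have h : cntLeaves codeT 2 420 20 = 0 := by decide +kernel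
  rw [cntLeaves_eq] at h
  exact h

theorem chk_cnt2_22 : cntF (inOrb codeT 2) (0 + 22 * 20480) 20480 = 0 := by
  have h : cntLeaves codeT 2 440 20 = 0 := by decide +kernel
  rw [cntLeaves_eq] at h
  exact h

theorem chk_cnt2_23 : cntF (inOrb codeT 2) (0 + 23 * 20480) 20480 = 0 := by
  have h : cntLeaves codeT 2 460 20 = 0 := by decide +kernel
  rw [cntLeaves_eq] at h
  exact h

theorem chk_cnt2_24 : cntF (inOrb codeT 2) (0 + 24 * 20480) 20480 = 0 := by
  have h : cntLeaves codeT 2 480 20 = 0 := by decide +kernel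
  rw [cntLeaves_eq] at h
  exact h

theorem chk_cnt2_25 : cntF (inOrb codeT 2) (0 + 25 * 20480) 20480 = 0 := by
  have h : cntLeaves codeT 2 500 20 = 0 := by decide +kernel
  rw [cntLeaves_eq] at h
  exact h

theorem chk_cnt2_26 : cntF (inOrb codeT 2) (0 + 26 * 20480) 20480 = 0 := by
  have h : cntLeaves codeT 2 520 20 = 0 := by decide +kernel
  rw [cntLeaves_eq] at h
  exact h

theorem chk_cnt2_27 : cntF (inOrb codeT 2) (0 + 27 * 20480) 20480 = 0 := by
  have h : cntLeaves codeT 2 540 20 = 0 := by decide +kernel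
  rw [cntLeaves_eq] at h
  exact h

theorem chk_cnt2_28 : cntF (inOrb codeT 2) (0 + 28 * 20480) 20480 = 0 := by
  have h : cntLeaves codeT 2 560 20 = 0 := by decide +kernel
  rw [cntLeaves_eq] at h
  exact h

theorem chk_cnt2_29 : cntF (inOrb codeT 2) (0 + 29 * 20480) 20480 = 0 := by
  have h : cntLeaves codeT 2 580 20 = 0 := by decide +kernel
  rw [cntLeaves_eq] at h
  exact h

theorem chk_cnt2_30 : cntF (inOrb codeT 2) (0 + 30 * 20480) 20480 = 0 := by
  have h : cntLeaves codeT 2 600 20 = 0 := by decide +kernel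
  rw [cntLeaves_eq] at h
  exact h

theorem chk_cnt2_31 : cntF (inOrb codeT 2) (0 + 31 * 20480) 20480 = 0 := by
  have h : cntLeaves codeT 2 620 20 = 0 := by decide +kernel
  rw [cntLeaves_eq] at h
  exact h

theorem chk_cnt2_32 : cntF (inOrb codeT 2) (0 + 32 * 20480) 20480 = 0 := by
  have h : cntLeaves codeT 2 640 20 = 0 := by decide +kernel
  rw [cntLeaves_eq] at h
  exact h

theorem chk_cnt2_33 : cntF (inOrb codeT 2) (0 + 33 * 20480) 20480 = 0 := by
  have h : cntLeaves codeT 2 660 20 = 0 := by decide +kernel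
  rw [cntLeaves_eq] at h
  exact h

theorem chk_cnt2_34 : cntF (inOrb codeT 2) (0 + 34 * 20480) 20480 = 0 := by
  have h : cntLeaves codeT 2 680 20 = 0 := by decide +kernel
  rw [cntLeaves_eq] at h
  exact h

theorem chk_cnt2_35 : cntF (inOrb codeT 2) (0 + 35 * 20480) 20480 = 0 := by
  have h : cntLeaves codeT 2 700 20 = 0 := by decide +kernel
  rw [cntLeaves_eq] at h
  exact h

theorem chk_cnt2_36 : cntF (inOrb codeT 2) (0 + 36 * 20480) 20480 = 0 := by
  have h : cntLeaves codeT 2 720 20 = 0 := by decide +kernel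
  rw [cntLeaves_eq] at h
  exact h

theorem chk_cnt2_37 : cntF (inOrb codeT 2) (0 + 37 * 20480) 20480 = 0 := by
  have h : cntLeaves codeT 2 740 20 = 0 := by decide +kernel
  rw [cntLeaves_eq] at h
  exact h

theorem chk_cnt2_38 : cntF (inOrb codeT 2) (0 + 38 * 20480) 20480 = 0 := by
  have h : cntLeaves codeT 2 760 20 = 0 := by decide +kernel
  rw [cntLeaves_eq] at h
  exact h

theorem chk_cnt2_39 : cntF (inOrb codeT 2) (0 + 39 * 20480) 20480 = 0 := by
  have h : cntLeaves codeT 2 780 20 = 0 := by decide +kernel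
  rw [cntLeaves_eq] at h
  exact h

theorem chk_cnt2_40 : cntF (inOrb codeT 2) (0 + 40 * 20480) 20480 = 0 := by
  have h : cntLeaves codeT 2 800 20 = 0 := by decide +kernel
  rw [cntLeaves_eq] at h
  exact h

theorem chk_cnt2_41 : cntF (inOrb codeT 2) (0 + 41 * 20480) 20480 = 0 := by
  have h : cntLeaves codeT 2 820 20 = 0 := by decide +kernel
  rw [cntLeaves_eq] at h
  exact h

theorem chk_cnt2_42 : cntF (inOrb codeT 2) (0 + 42 * 20480) 20480 = 0 := by
  have h : cntLeaves codeT 2 840 20 = 0 := by decide +kernel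
  rw [cntLeaves_eq] at h
  exact h

theorem chk_cnt2_43 : cntF (inOrb codeT 2) (0 + 43 * 20480) 20480 = 0 := by
  have h : cntLeaves codeT 2 860 20 = 0 := by decide +kernel
  rw [cntLeaves_eq] at h
  exact h

theorem chk_cnt2_44 : cntF (inOrb codeT 2) (0 + 44 * 20480) 20480 = 0 := by
  have h : cntLeaves codeT 2 880 20 = 0 := by decide +kernel
  rw [cntLeaves_eq] at h
  exact h

theorem chk_cnt2_45 : cntF (inOrb codeT 2) (0 + 45 * 20480) 20480 = 0 := by
  have h : cntLeaves codeT 2 900 20 = 0 := by decide +kernel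
  rw [cntLeaves_eq] at h
  exact h

theorem chk_cnt2_46 : cntF (inOrb codeT 2) (0 + 46 * 20480) 20480 = 0 := by
  have h : cntLeaves codeT 2 920 20 = 0 := by decide +kernel
  rw [cntLeaves_eq] at h
  exact h

theorem chk_cnt2_47 : cntF (inOrb codeT 2) (0 + 47 * 20480) 20480 = 0 := by
  have h : cntLeaves codeT 2 940 20 = 0 := by decide +kernel
  rw [cntLeaves_eq] at h
  exact h

theorem chk_cnt2_48 : cntF (inOrb codeT 2) (0 + 48 * 20480) 20480 = 0 := by
  have h : cntLeaves codeT 2 960 20 = 0 := by decide +kernel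
  rw [cntLeaves_eq] at h
  exact h

theorem chk_cnt2_49 : cntF (inOrb codeT 2) (0 + 49 * 20480) 20480 = 0 := by
  have h : cntLeaves codeT 2 980 20 = 0 := by decide +kernel
  rw [cntLeaves_eq] at h
  exact h

theorem chk_cnt2_50 : cntF (inOrb codeT 2) (0 + 50 * 20480) 20480 = 0 := by
  have h : cntLeaves codeT 2 1000 20 = 0 := by decide +kernel
  rw [cntLeaves_eq] at h
  exact h

theorem chk_cnt2_51 : cntF (inOrb codeT 2) (0 + 51 * 20480) 20480 = 0 := by
  have h : cntLeaves codeT 2 1020 20 = 0 := by decide +kernel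
  rw [cntLeaves_eq] at h
  exact h

theorem chk_cnt2_52 : cntF (inOrb codeT 2) (0 + 52 * 20480) 20480 = 0 := by
  have h : cntLeaves codeT 2 1040 20 = 0 := by decide +kernel
  rw [cntLeaves_eq] at h
  exact h

theorem chk_cnt2_53 : cntF (inOrb codeT 2) (0 + 53 * 20480) 20480 = 0 := by
  have h : cntLeaves codeT 2 1060 20 = 0 := by decide +kernel
  rw [cntLeaves_eq] at h
  exact h

theorem chk_cnt2_54 : cntF (inOrb codeT 2) (0 + 54 * 20480) 20480 = 0 := by
  have h : cntLeaves codeT 2 1080 20 = 0 := by decide +kernel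
  rw [cntLeaves_eq] at h
  exact h

theorem chk_cnt2_55 : cntF (inOrb codeT 2) (0 + 55 * 20480) 20480 = 0 := by
  have h : cntLeaves codeT 2 1100 20 = 0 := by decide +kernel
  rw [cntLeaves_eq] at h
  exact h

theorem chk_cnt2_56 : cntF (inOrb codeT 2) (0 + 56 * 20480) 20480 = 0 := by
  have h : cntLeaves codeT 2 1120 20 = 0 := by decide +kernel
  rw [cntLeaves_eq] at h
  exact h

theorem chk_cnt2_57 : cntF (inOrb codeT 2) (0 + 57 * 20480) 20480 = 0 := by
  have h : cntLeaves codeT 2 1140 20 = 0 := by decide +kernel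
  rw [cntLeaves_eq] at h
  exact h

theorem chk_cnt2_58 : cntF (inOrb codeT 2) (0 + 58 * 20480) 20480 = 0 := by
  have h : cntLeaves codeT 2 1160 20 = 0 := by decide +kernel
  rw [cntLeaves_eq] at h
  exact h

theorem chk_cnt2_59 : cntF (inOrb codeT 2) (0 + 59 * 20480) 20480 = 0 := by
  have h : cntLeaves codeT 2 1180 20 = 0 := by decide +kernel
  rw [cntLeaves_eq] at h
  exact h

theorem chk_cnt2_60 : cntF (inOrb codeT 2) (0 + 60 * 20480) 20480 = 0 := by
  have h : cntLeaves codeT 2 1200 20 = 0 := by decide +kernel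
  rw [cntLeaves_eq] at h
  exact h

theorem chk_cnt2_61 : cntF (inOrb codeT 2) (0 + 61 * 20480) 20480 = 0 := by
  have h : cntLeaves codeT 2 1220 20 = 0 := by decide +kernel
  rw [cntLeaves_eq] at h
  exact h

theorem chk_cnt2_62 : cntF (inOrb codeT 2) (0 + 62 * 20480) 20480 = 0 := by
  have h : cntLeaves codeT 2 1240 20 = 0 := by decide +kernel
  rw [cntLeaves_eq] at h
  exact h

theorem chk_cnt2_63 : cntF (inOrb codeT 2) (0 + 63 * 20480) 20480 = 0 := by
  have h : cntLeaves codeT 2 1260 20 = 0 := by decide +kernel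
  rw [cntLeaves_eq] at h
  exact h

theorem chk_cnt2_64 : cntF (inOrb codeT 2) (0 + 64 * 20480) 20480 = 0 := by
  have h : cntLeaves codeT 2 1280 20 = 0 := by decide +kernel
  rw [cntLeaves_eq] at h
  exact h

theorem chk_cnt2_65 : cntF (inOrb codeT 2) (0 + 65 * 20480) 20480 = 0 := by
  have h : cntLeaves codeT 2 1300 20 = 0 := by decide +kernel
  rw [cntLeaves_eq] at h
  exact h

theorem chk_cnt2_66 : cntF (inOrb codeT 2) (0 + 66 * 20480) 20480 = 0 := by
  have h : cntLeaves codeT 2 1320 20 = 0 := by decide +kernel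
  rw [cntLeaves_eq] at h
  exact h

theorem chk_cnt2_67 : cntF (inOrb codeT 2) (0 + 67 * 20480) 20480 = 0 := by
  have h : cntLeaves codeT 2 1340 20 = 0 := by decide +kernel
  rw [cntLeaves_eq] at h
  exact h

theorem chk_cnt2_68 : cntF (inOrb codeT 2) (0 + 68 * 20480) 20480 = 0 := by
  have h : cntLeaves codeT 2 1360 20 = 0 := by decide +kernel
  rw [cntLeaves_eq] at h
  exact h

theorem chk_cnt2_69 : cntF (inOrb codeT 2) (0 + 69 * 20480) 20480 = 0 := by
  have h : cntLeaves codeT 2 1380 20 = 0 := by decide +kernel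
  rw [cntLeaves_eq] at h
  exact h

theorem chk_cnt2_70 : cntF (inOrb codeT 2) (0 + 70 * 20480) 20480 = 0 := by
  have h : cntLeaves codeT 2 1400 20 = 0 := by decide +kernel
  rw [cntLeaves_eq] at h
  exact h

theorem chk_cnt2_71 : cntF (inOrb codeT 2) (0 + 71 * 20480) 20480 = 0 := by
  have h : cntLeaves codeT 2 1420 20 = 0 := by decide +kernel
  rw [cntLeaves_eq] at h
  exact h

theorem chk_cnt2_72 : cntF (inOrb codeT 2) (0 + 72 * 20480) 20480 = 0 := by
  have h : cntLeaves codeT 2 1440 20 = 0 := by decide +kernel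
  rw [cntLeaves_eq] at h
  exact h

theorem chk_cnt2_73 : cntF (inOrb codeT 2) (0 + 73 * 20480) 20480 = 0 := by
  have h : cntLeaves codeT 2 1460 20 = 0 := by decide +kernel
  rw [cntLeaves_eq] at h
  exact h

theorem chk_cnt2_74 : cntF (inOrb codeT 2) (0 + 74 * 20480) 20480 = 0 := by
  have h : cntLeaves codeT 2 1480 20 = 0 := by decide +kernel
  rw [cntLeaves_eq] at h
  exact h

theorem chk_cnt2_last : cntF (inOrb codeT 2) (0 + 75 * 20480) 3000 = 0 := by decide +kernel

theorem cnt2 : cntF (inOrb codeT 2) 0 1539000 = 35200 := by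
  have e : (1539000 : ℕ) = ([8190, 2397, 4096, 4096, 4096, 4096, 4096, 4096, 37, 0, 0, 0, 0, 0, 0, 0, 0, 0, 0, 0, 0, 0, 0, 0, 0, 0, 0, 0, 0, 0, 0, 0, 0, 0, 0, 0, 0, 0, 0, 0, 0, 0, 0, 0, 0, 0, 0, 0, 0, 0, 0, 0, 0, 0, 0, 0, 0, 0, 0, 0, 0, 0, 0, 0, 0, 0, 0, 0, 0, 0, 0, 0, 0, 0, 0] : List ℕ).length * 20480 + 3000 := by norm_num
  rw [e, cntF_add, cntF_of_chunks (inOrb codeT 2) 20480 [8190, 2397, 4096, 4096, 4096, 4096, 4096, 4096, 37, 0, 0, 0, 0, 0, 0, 0, 0, 0, 0, 0, 0, 0, 0, 0, 0, 0, 0, 0, 0, 0, 0, 0, 0, 0, 0, 0, 0, 0, 0, 0, 0, 0, 0, 0, 0, 0, 0, 0, 0, 0, 0, 0, 0, 0, 0, 0, 0, 0, 0, 0, 0, 0, 0, 0, 0, 0, 0, 0, 0, 0, 0, 0, 0, 0, 0] 0 ?_]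
  · have e2 : 0 + ([8190, 2397, 4096, 4096, 4096, 4096, 4096, 4096, 37, 0, 0, 0, 0, 0, 0, 0, 0, 0, 0, 0, 0, 0, 0, 0, 0, 0, 0, 0, 0, 0, 0, 0, 0, 0, 0, 0, 0, 0, 0, 0, 0, 0, 0, 0, 0, 0, 0, 0, 0, 0, 0, 0, 0, 0, 0, 0, 0, 0, 0, 0, 0, 0, 0, 0, 0, 0, 0, 0, 0, 0, 0, 0, 0, 0, 0] : List ℕ).length * 20480 = 0 + 75 * 20480 := by norm_num
    rw [e2, chk_cnt2_last]
    norm_num
  · intro k hk
    have hk' : k < 75 := by simpa using hk
    interval_cases k
    · exact chk_cnt2_0
    · exact chk_cnt2_1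
    · exact chk_cnt2_2
    · exact chk_cnt2_3
    · exact chk_cnt2_4
    · exact chk_cnt2_5
    · exact chk_cnt2_6
    · exact chk_cnt2_7
    · exact chk_cnt2_8
    · exact chk_cnt2_9
    · exact chk_cnt2_10
    · exact chk_cnt2_11
    · exact chk_cnt2_12
    · exact chk_cnt2_13
    · exact chk_cnt2_14
    · exact chk_cnt2_15
    · exact chk_cnt2_16
    · exact chk_cnt2_17
    · exact chk_cnt2_18
    · exact chk_cnt2_19
    · exact chk_cnt2_20
    · exact chk_cnt2_21
    · exact chk_cnt2_22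
    · exact chk_cnt2_23
    · exact chk_cnt2_24
    · exact chk_cnt2_25
    · exact chk_cnt2_26
    · exact chk_cnt2_27
    · exact chk_cnt2_28
    · exact chk_cnt2_29
    · exact chk_cnt2_30
    · exact chk_cnt2_31
    · exact chk_cnt2_32
    · exact chk_cnt2_33
    · exact chk_cnt2_34
    · exact chk_cnt2_35
    · exact chk_cnt2_36
    · exact chk_cnt2_37
    · exact chk_cnt2_38
    · exact chk_cnt2_39
    · exact chk_cnt2_40
    · exact chk_cnt2_41
    · exact chk_cnt2_42
    · exact chk_cnt2_43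
    · exact chk_cnt2_44
    · exact chk_cnt2_45
    · exact chk_cnt2_46
    · exact chk_cnt2_47
    · exact chk_cnt2_48
    · exact chk_cnt2_49
    · exact chk_cnt2_50
    · exact chk_cnt2_51
    · exact chk_cnt2_52
    · exact chk_cnt2_53
    · exact chk_cnt2_54
    · exact chk_cnt2_55
    · exact chk_cnt2_56
    · exact chk_cnt2_57
    · exact chk_cnt2_58
    · exact chk_cnt2_59
    · exact chk_cnt2_60
    · exact chk_cnt2_61
    · exact chk_cnt2_62
    · exact chk_cnt2_63
    · exact chk_cnt2_64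
    · exact chk_cnt2_65
    · exact chk_cnt2_66
    · exact chk_cnt2_67
    · exact chk_cnt2_68
    · exact chk_cnt2_69
    · exact chk_cnt2_70
    · exact chk_cnt2_71
    · exact chk_cnt2_72
    · exact chk_cnt2_73
    · exact chk_cnt2_74

end Cfsg.Agent.Lib.Helper5.HNCert
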