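import Cfsg.Agent.Lib.Helper5.HNCert.Code

/-! # generated: certificates of the back end -/

set_option autoImplicit false
set_option maxRecDepth 1000000
set_option maxHeartbeats 40000000

namespace Cfsg.Agent.Lib.Helper5.HNCert

open Cfsg.Agent.Lib.Helper6.TC Cfsg.Agent.Lib.Helper6.NatArr Cfsg.Agent.Lib.Helper5.HNBack Cfsg.Agent.Lib.Lead.HNP.HNTC

theorem chk_cnt3_0 : cntF (inOrb codeT 3) (0 + 0 * 20480) 20480 = 100 := by
  have h : cntLeaves codeT 3 0 20 = 100 := by decide +kernel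
  rw [cntLeaves_eq] at h
  exact h

theorem chk_cnt3_1 : cntF (inOrb codeT 3) (0 + 1 * 20480) 20480 = 2100 := by
  have h : cntLeaves codeT 3 20 20 = 2100 := by decide +kernel
  rw [cntLeaves_eq] at h
  exact h

theorem chk_cnt3_2 : cntF (inOrb codeT 3) (0 + 2 * 20480) 20480 = 0 := by
  have h : cntLeaves codeT 3 40 20 = 0 := by decide +kernel
  rw [cntLeaves_eq] at h
  exact h

theorem chk_cnt3_3 : cntF (inOrb codeT 3) (0 + 3 * 20480) 20480 = 0 := by
  have h : cntLeaves codeT 3 60 20 = 0 := by decide +kernel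
  rw [cntLeaves_eq] at h
  exact h

theorem chk_cnt3_4 : cntF (inOrb codeT 3) (0 + 4 * 20480) 20480 = 0 := by
  have h : cntLeaves codeT 3 80 20 = 0 := by decide +kernel
  rw [cntLeaves_eq] at h
  exact h

theorem chk_cnt3_5 : cntF (inOrb codeT 3) (0 + 5 * 20480) 20480 = 0 := by
  have h : cntLeaves codeT 3 100 20 = 0 := by decide +kernel
  rw [cntLeaves_eq] at h
  exact h

theorem chk_cnt3_6 : cntF (inOrb codeT 3) (0 + 6 * 20480) 20480 = 0 := by
  have h : cntLeaves codeT 3 120 20 = 0 := by decide +kernel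
  rw [cntLeaves_eq] at h
  exact h

theorem chk_cnt3_7 : cntF (inOrb codeT 3) (0 + 7 * 20480) 20480 = 0 := by
  have h : cntLeaves codeT 3 140 20 = 0 := by decide +kernel
  rw [cntLeaves_eq] at h
  exact h

theorem chk_cnt3_8 : cntF (inOrb codeT 3) (0 + 8 * 20480) 20480 = 0 := by
  have h : cntLeaves codeT 3 160 20 = 0 := by decide +kernel
  rw [cntLeaves_eq] at h
  exact h

theorem chk_cnt3_9 : cntF (inOrb codeT 3) (0 + 9 * 20480) 20480 = 0 := by
  have h : cntLeaves codeT 3 180 20 = 0 := by decide +kernel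
  rw [cntLeaves_eq] at h
  exact h

theorem chk_cnt3_10 : cntF (inOrb codeT 3) (0 + 10 * 20480) 20480 = 0 := by
  have h : cntLeaves codeT 3 200 20 = 0 := by decide +kernel
  rw [cntLeaves_eq] at h
  exact h

theorem chk_cnt3_11 : cntF (inOrb codeT 3) (0 + 11 * 20480) 20480 = 0 := by
  have h : cntLeaves codeT 3 220 20 = 0 := by decide +kernel
  rw [cntLeaves_eq] at h
  exact h

theorem chk_cnt3_12 : cntF (inOrb codeT 3) (0 + 12 * 20480) 20480 = 0 := by
  have h : cntLeaves codeT 3 240 20 = 0 := by decide +kernel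
  rw [cntLeaves_eq] at h
  exact h

theorem chk_cnt3_13 : cntF (inOrb codeT 3) (0 + 13 * 20480) 20480 = 0 := by
  have h : cntLeaves codeT 3 260 20 = 0 := by decide +kernel
  rw [cntLeaves_eq] at h
  exact h

theorem chk_cnt3_14 : cntF (inOrb codeT 3) (0 + 14 * 20480) 20480 = 0 := by
  have h : cntLeaves codeT 3 280 20 = 0 := by decide +kernel
  rw [cntLeaves_eq] at h
  exact h

theorem chk_cnt3_15 : cntF (inOrb codeT 3) (0 + 15 * 20480) 20480 = 0 := by
  have h : cntLeaves codeT 3 300 20 = 0 := by decide +kernel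
  rw [cntLeaves_eq] at h
  exact h

theorem chk_cnt3_16 : cntF (inOrb codeT 3) (0 + 16 * 20480) 20480 = 0 := by
  have h : cntLeaves codeT 3 320 20 = 0 := by decide +kernel
  rw [cntLeaves_eq] at h
  exact h

theorem chk_cnt3_17 : cntF (inOrb codeT 3) (0 + 17 * 20480) 20480 = 0 := by
  have h : cntLeaves codeT 3 340 20 = 0 := by decide +kernel
  rw [cntLeaves_eq] at h
  exact h

theorem chk_cnt3_18 : cntF (inOrb codeT 3) (0 + 18 * 20480) 20480 = 0 := by
  have h : cntLeaves codeT 3 360 20 = 0 := by decide +kernel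
  rw [cntLeaves_eq] at h
  exact h

theorem chk_cnt3_19 : cntF (inOrb codeT 3) (0 + 19 * 20480) 20480 = 0 := by
  have h : cntLeaves codeT 3 380 20 = 0 := by decide +kernel
  rw [cntLeaves_eq] at h
  exact h

theorem chk_cnt3_20 : cntF (inOrb codeT 3) (0 + 20 * 20480) 20480 = 0 := by
  have h : cntLeaves codeT 3 400 20 = 0 := by decide +kernel
  rw [cntLeaves_eq] at h
  exact h

theorem chk_cnt3_21 : cntF (inOrb codeT 3) (0 + 21 * 20480) 20480 = 0 := by
  have h : cntLeaves codeT 3 420 20 = 0 := by decide +kernel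
  rw [cntLeaves_eq] at h
  exact h

theorem chk_cnt3_22 : cntF (inOrb codeT 3) (0 + 22 * 20480) 20480 = 0 := by
  have h : cntLeaves codeT 3 440 20 = 0 := by decide +kernel
  rw [cntLeaves_eq] at h
  exact h

theorem chk_cnt3_23 : cntF (inOrb codeT 3) (0 + 23 * 20480) 20480 = 0 := by
  have h : cntLeaves codeT 3 460 20 = 0 := by decide +kernel
  rw [cntLeaves_eq] at h
  exact h

theorem chk_cnt3_24 : cntF (inOrb codeT 3) (0 + 24 * 20480) 20480 = 0 := by
  have h : cntLeaves codeT 3 480 20 = 0 := by decide +kernel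
  rw [cntLeaves_eq] at h
  exact h

theorem chk_cnt3_25 : cntF (inOrb codeT 3) (0 + 25 * 20480) 20480 = 0 := by
  have h : cntLeaves codeT 3 500 20 = 0 := by decide +kernel
  rw [cntLeaves_eq] at h
  exact h

theorem chk_cnt3_26 : cntF (inOrb codeT 3) (0 + 26 * 20480) 20480 = 0 := by
  have h : cntLeaves codeT 3 520 20 = 0 := by decide +kernel
  rw [cntLeaves_eq] at h
  exact h

theorem chk_cnt3_27 : cntF (inOrb codeT 3) (0 + 27 * 20480) 20480 = 0 := by
  have h : cntLeaves codeT 3 540 20 = 0 := by decide +kernel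
  rw [cntLeaves_eq] at h
  exact h

theorem chk_cnt3_28 : cntF (inOrb codeT 3) (0 + 28 * 20480) 20480 = 0 := by
  have h : cntLeaves codeT 3 560 20 = 0 := by decide +kernel
  rw [cntLeaves_eq] at h
  exact h

theorem chk_cnt3_29 : cntF (inOrb codeT 3) (0 + 29 * 20480) 20480 = 0 := by
  have h : cntLeaves codeT 3 580 20 = 0 := by decide +kernel
  rw [cntLeaves_eq] at h
  exact h

theorem chk_cnt3_30 : cntF (inOrb codeT 3) (0 + 30 * 20480) 20480 = 0 := by
  have h : cntLeaves codeT 3 600 20 = 0 := by decide +kernel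
  rw [cntLeaves_eq] at h
  exact h

theorem chk_cnt3_31 : cntF (inOrb codeT 3) (0 + 31 * 20480) 20480 = 0 := by
  have h : cntLeaves codeT 3 620 20 = 0 := by decide +kernel
  rw [cntLeaves_eq] at h
  exact h

theorem chk_cnt3_32 : cntF (inOrb codeT 3) (0 + 32 * 20480) 20480 = 0 := by
  have h : cntLeaves codeT 3 640 20 = 0 := by decide +kernel
  rw [cntLeaves_eq] at h
  exact h

theorem chk_cnt3_33 : cntF (inOrb codeT 3) (0 + 33 * 20480) 20480 = 0 := by
  have h : cntLeaves codeT 3 660 20 = 0 := by decide +kernel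
  rw [cntLeaves_eq] at h
  exact h

theorem chk_cnt3_34 : cntF (inOrb codeT 3) (0 + 34 * 20480) 20480 = 0 := by
  have h : cntLeaves codeT 3 680 20 = 0 := by decide +kernel
  rw [cntLeaves_eq] at h
  exact h

theorem chk_cnt3_35 : cntF (inOrb codeT 3) (0 + 35 * 20480) 20480 = 0 := by
  have h : cntLeaves codeT 3 700 20 = 0 := by decide +kernel
  rw [cntLeaves_eq] at h
  exact h

theorem chk_cnt3_36 : cntF (inOrb codeT 3) (0 + 36 * 20480) 20480 = 0 := by
  have h : cntLeaves codeT 3 720 20 = 0 := by decide +kernel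
  rw [cntLeaves_eq] at h
  exact h

theorem chk_cnt3_37 : cntF (inOrb codeT 3) (0 + 37 * 20480) 20480 = 0 := by
  have h : cntLeaves codeT 3 740 20 = 0 := by decide +kernel
  rw [cntLeaves_eq] at h
  exact h

theorem chk_cnt3_38 : cntF (inOrb codeT 3) (0 + 38 * 20480) 20480 = 0 := by
  have h : cntLeaves codeT 3 760 20 = 0 := by decide +kernel
  rw [cntLeaves_eq] at h
  exact h

theorem chk_cnt3_39 : cntF (inOrb codeT 3) (0 + 39 * 20480) 20480 = 0 := by
  have h : cntLeaves codeT 3 780 20 = 0 := by decide +kernel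
  rw [cntLeaves_eq] at h
  exact h

theorem chk_cnt3_40 : cntF (inOrb codeT 3) (0 + 40 * 20480) 20480 = 0 := by
  have h : cntLeaves codeT 3 800 20 = 0 := by decide +kernel
  rw [cntLeaves_eq] at h
  exact h

theorem chk_cnt3_41 : cntF (inOrb codeT 3) (0 + 41 * 20480) 20480 = 0 := by
  have h : cntLeaves codeT 3 820 20 = 0 := by decide +kernel
  rw [cntLeaves_eq] at h
  exact h

theorem chk_cnt3_42 : cntF (inOrb codeT 3) (0 + 42 * 20480) 20480 = 0 := by
  have h : cntLeaves codeT 3 840 20 = 0 := by decide +kernel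
  rw [cntLeaves_eq] at h
  exact h

theorem chk_cnt3_43 : cntF (inOrb codeT 3) (0 + 43 * 20480) 20480 = 0 := by
  have h : cntLeaves codeT 3 860 20 = 0 := by decide +kernel
  rw [cntLeaves_eq] at h
  exact h

theorem chk_cnt3_44 : cntF (inOrb codeT 3) (0 + 44 * 20480) 20480 = 0 := by
  have h : cntLeaves codeT 3 880 20 = 0 := by decide +kernel
  rw [cntLeaves_eq] at h
  exact h

theorem chk_cnt3_45 : cntF (inOrb codeT 3) (0 + 45 * 20480) 20480 = 0 := by
  have h : cntLeaves codeT 3 900 20 = 0 := by decide +kernel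
  rw [cntLeaves_eq] at h
  exact h

theorem chk_cnt3_46 : cntF (inOrb codeT 3) (0 + 46 * 20480) 20480 = 0 := by
  have h : cntLeaves codeT 3 920 20 = 0 := by decide +kernel
  rw [cntLeaves_eq] at h
  exact h

theorem chk_cnt3_47 : cntF (inOrb codeT 3) (0 + 47 * 20480) 20480 = 0 := by
  have h : cntLeaves codeT 3 940 20 = 0 := by decide +kernel
  rw [cntLeaves_eq] at h
  exact h

theorem chk_cnt3_48 : cntF (inOrb codeT 3) (0 + 48 * 20480) 20480 = 0 := by
  have h : cntLeaves codeT 3 960 20 = 0 := by decide +kernel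
  rw [cntLeaves_eq] at h
  exact h

theorem chk_cnt3_49 : cntF (inOrb codeT 3) (0 + 49 * 20480) 20480 = 0 := by
  have h : cntLeaves codeT 3 980 20 = 0 := by decide +kernel
  rw [cntLeaves_eq] at h
  exact h

theorem chk_cnt3_50 : cntF (inOrb codeT 3) (0 + 50 * 20480) 20480 = 0 := by
  have h : cntLeaves codeT 3 1000 20 = 0 := by decide +kernel
  rw [cntLeaves_eq] at h
  exact h

theorem chk_cnt3_51 : cntF (inOrb codeT 3) (0 + 51 * 20480) 20480 = 0 := by
  have h : cntLeaves codeT 3 1020 20 = 0 := by decide +kernel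
  rw [cntLeaves_eq] at h
  exact h

theorem chk_cnt3_52 : cntF (inOrb codeT 3) (0 + 52 * 20480) 20480 = 0 := by
  have h : cntLeaves codeT 3 1040 20 = 0 := by decide +kernel
  rw [cntLeaves_eq] at h
  exact h

theorem chk_cnt3_53 : cntF (inOrb codeT 3) (0 + 53 * 20480) 20480 = 0 := by
  have h : cntLeaves codeT 3 1060 20 = 0 := by decide +kernel
  rw [cntLeaves_eq] at h
  exact h

theorem chk_cnt3_54 : cntF (inOrb codeT 3) (0 + 54 * 20480) 20480 = 0 := by
  have h : cntLeaves codeT 3 1080 20 = 0 := by decide +kernel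
  rw [cntLeaves_eq] at h
  exact h

theorem chk_cnt3_55 : cntF (inOrb codeT 3) (0 + 55 * 20480) 20480 = 0 := by
  have h : cntLeaves codeT 3 1100 20 = 0 := by decide +kernel
  rw [cntLeaves_eq] at h
  exact h

theorem chk_cnt3_56 : cntF (inOrb codeT 3) (0 + 56 * 20480) 20480 = 0 := by
  have h : cntLeaves codeT 3 1120 20 = 0 := by decide +kernel
  rw [cntLeaves_eq] at h
  exact h

theorem chk_cnt3_57 : cntF (inOrb codeT 3) (0 + 57 * 20480) 20480 = 0 := by
  have h : cntLeaves codeT 3 1140 20 = 0 := by decide +kernel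
  rw [cntLeaves_eq] at h
  exact h

theorem chk_cnt3_58 : cntF (inOrb codeT 3) (0 + 58 * 20480) 20480 = 0 := by
  have h : cntLeaves codeT 3 1160 20 = 0 := by decide +kernel
  rw [cntLeaves_eq] at h
  exact h

theorem chk_cnt3_59 : cntF (inOrb codeT 3) (0 + 59 * 20480) 20480 = 0 := by
  have h : cntLeaves codeT 3 1180 20 = 0 := by decide +kernel
  rw [cntLeaves_eq] at h
  exact h

theorem chk_cnt3_60 : cntF (inOrb codeT 3) (0 + 60 * 20480) 20480 = 0 := by
  have h : cntLeaves codeT 3 1200 20 = 0 := by decide +kernel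
  rw [cntLeaves_eq] at h
  exact h

theorem chk_cnt3_61 : cntF (inOrb codeT 3) (0 + 61 * 20480) 20480 = 0 := by
  have h : cntLeaves codeT 3 1220 20 = 0 := by decide +kernel
  rw [cntLeaves_eq] at h
  exact h

theorem chk_cnt3_62 : cntF (inOrb codeT 3) (0 + 62 * 20480) 20480 = 0 := by
  have h : cntLeaves codeT 3 1240 20 = 0 := by decide +kernel
  rw [cntLeaves_eq] at h
  exact h

theorem chk_cnt3_63 : cntF (inOrb codeT 3) (0 + 63 * 20480) 20480 = 0 := by
  have h : cntLeaves codeT 3 1260 20 = 0 := by decide +kernel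
  rw [cntLeaves_eq] at h
  exact h

theorem chk_cnt3_64 : cntF (inOrb codeT 3) (0 + 64 * 20480) 20480 = 0 := by
  have h : cntLeaves codeT 3 1280 20 = 0 := by decide +kernel
  rw [cntLeaves_eq] at h
  exact h

theorem chk_cnt3_65 : cntF (inOrb codeT 3) (0 + 65 * 20480) 20480 = 0 := by
  have h : cntLeaves codeT 3 1300 20 = 0 := by decide +kernel
  rw [cntLeaves_eq] at h
  exact h

theorem chk_cnt3_66 : cntF (inOrb codeT 3) (0 + 66 * 20480) 20480 = 0 := by
  have h : cntLeaves codeT 3 1320 20 = 0 := by decide +kernel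
  rw [cntLeaves_eq] at h
  exact h

theorem chk_cnt3_67 : cntF (inOrb codeT 3) (0 + 67 * 20480) 20480 = 0 := by
  have h : cntLeaves codeT 3 1340 20 = 0 := by decide +kernel
  rw [cntLeaves_eq] at h
  exact h

theorem chk_cnt3_68 : cntF (inOrb codeT 3) (0 + 68 * 20480) 20480 = 0 := by
  have h : cntLeaves codeT 3 1360 20 = 0 := by decide +kernel
  rw [cntLeaves_eq] at h
  exact h

theorem chk_cnt3_69 : cntF (inOrb codeT 3) (0 + 69 * 20480) 20480 = 0 := by
  have h : cntLeaves codeT 3 1380 20 = 0 := by decide +kernel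
  rw [cntLeaves_eq] at h
  exact h

theorem chk_cnt3_70 : cntF (inOrb codeT 3) (0 + 70 * 20480) 20480 = 0 := by
  have h : cntLeaves codeT 3 1400 20 = 0 := by decide +kernel
  rw [cntLeaves_eq] at h
  exact h

theorem chk_cnt3_71 : cntF (inOrb codeT 3) (0 + 71 * 20480) 20480 = 0 := by
  have h : cntLeaves codeT 3 1420 20 = 0 := by decide +kernel
  rw [cntLeaves_eq] at h
  exact h

theorem chk_cnt3_72 : cntF (inOrb codeT 3) (0 + 72 * 20480) 20480 = 0 := by
  have h : cntLeaves codeT 3 1440 20 = 0 := by decide +kernel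
  rw [cntLeaves_eq] at h
  exact h

theorem chk_cnt3_73 : cntF (inOrb codeT 3) (0 + 73 * 20480) 20480 = 0 := by
  have h : cntLeaves codeT 3 1460 20 = 0 := by decide +kernel
  rw [cntLeaves_eq] at h
  exact h

theorem chk_cnt3_74 : cntF (inOrb codeT 3) (0 + 74 * 20480) 20480 = 0 := by
  have h : cntLeaves codeT 3 1480 20 = 0 := by decide +kernel
  rw [cntLeaves_eq] at h
  exact h

theorem chk_cnt3_last : cntF (inOrb codeT 3) (0 + 75 * 20480) 3000 = 0 := by decide +kernel

theorem cnt3 : cntF (inOrb codeT 3) 0 1539000 = 2200 := by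
  have e : (1539000 : ℕ) = ([100, 2100, 0, 0, 0, 0, 0, 0, 0, 0, 0, 0, 0, 0, 0, 0, 0, 0, 0, 0, 0, 0, 0, 0, 0, 0, 0, 0, 0, 0, 0, 0, 0, 0, 0, 0, 0, 0, 0, 0, 0, 0, 0, 0, 0, 0, 0, 0, 0, 0, 0, 0, 0, 0, 0, 0, 0, 0, 0, 0, 0, 0, 0, 0, 0, 0, 0, 0, 0, 0, 0, 0, 0, 0, 0] : List ℕ).length * 20480 + 3000 := by norm_num
  rw [e, cntF_add, cntF_of_chunks (inOrb codeT 3) 20480 [100, 2100, 0, 0, 0, 0, 0, 0, 0, 0, 0, 0, 0, 0, 0, 0, 0, 0, 0, 0, 0, 0, 0, 0, 0, 0, 0, 0, 0, 0, 0, 0, 0, 0, 0, 0, 0, 0, 0, 0, 0, 0, 0, 0, 0, 0, 0, 0, 0, 0, 0, 0, 0, 0, 0, 0, 0, 0, 0, 0, 0, 0, 0, 0, 0, 0, 0, 0, 0, 0, 0, 0, 0, 0, 0] 0 ?_]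
  · have e2 : 0 + ([100, 2100, 0, 0, 0, 0, 0, 0, 0, 0, 0, 0, 0, 0, 0, 0, 0, 0, 0, 0, 0, 0, 0, 0, 0, 0, 0, 0, 0, 0, 0, 0, 0, 0, 0, 0, 0, 0, 0, 0, 0, 0, 0, 0, 0, 0, 0, 0, 0, 0, 0, 0, 0, 0, 0, 0, 0, 0, 0, 0, 0, 0, 0, 0, 0, 0, 0, 0, 0, 0, 0, 0, 0, 0, 0] : List ℕ).length * 20480 = 0 + 75 * 20480 := by norm_num
    rw [e2, chk_cnt3_last]
    norm_num
  · intro k hk
    have hk' : k < 75 := by simpa using hk
    interval_cases k
    · exact chk_cnt3_0
    · exact chk_cnt3_1
    · exact chk_cnt3_2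
    · exact chk_cnt3_3
    · exact chk_cnt3_4
    · exact chk_cnt3_5
    · exact chk_cnt3_6
    · exact chk_cnt3_7
    · exact chk_cnt3_8
    · exact chk_cnt3_9
    · exact chk_cnt3_10
    · exact chk_cnt3_11
    · exact chk_cnt3_12
    · exact chk_cnt3_13
    · exact chk_cnt3_14
    · exact chk_cnt3_15
    · exact chk_cnt3_16
    · exact chk_cnt3_17
    · exact chk_cnt3_18
    · exact chk_cnt3_19
    · exact chk_cnt3_20
    · exact chk_cnt3_21
    · exact chk_cnt3_22
    · exact chk_cnt3_23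
    · exact chk_cnt3_24
    · exact chk_cnt3_25
    · exact chk_cnt3_26
    · exact chk_cnt3_27
    · exact chk_cnt3_28
    · exact chk_cnt3_29
    · exact chk_cnt3_30
    · exact chk_cnt3_31
    · exact chk_cnt3_32
    · exact chk_cnt3_33
    · exact chk_cnt3_34
    · exact chk_cnt3_35
    · exact chk_cnt3_36
    · exact chk_cnt3_37
    · exact chk_cnt3_38
    · exact chk_cnt3_39
    · exact chk_cnt3_40
    · exact chk_cnt3_41
    · exact chk_cnt3_42
    · exact chk_cnt3_43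
    · exact chk_cnt3_44
    · exact chk_cnt3_45
    · exact chk_cnt3_46
    · exact chk_cnt3_47
    · exact chk_cnt3_48
    · exact chk_cnt3_49
    · exact chk_cnt3_50
    · exact chk_cnt3_51
    · exact chk_cnt3_52
    · exact chk_cnt3_53
    · exact chk_cnt3_54
    · exact chk_cnt3_55
    · exact chk_cnt3_56
    · exact chk_cnt3_57
    · exact chk_cnt3_58
    · exact chk_cnt3_59
    · exact chk_cnt3_60
    · exact chk_cnt3_61
    · exact chk_cnt3_62
    · exact chk_cnt3_63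
    · exact chk_cnt3_64
    · exact chk_cnt3_65
    · exact chk_cnt3_66
    · exact chk_cnt3_67
    · exact chk_cnt3_68
    · exact chk_cnt3_69
    · exact chk_cnt3_70
    · exact chk_cnt3_71
    · exact chk_cnt3_72
    · exact chk_cnt3_73
    · exact chk_cnt3_74

end Cfsg.Agent.Lib.Helper5.HNCert
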