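import Cfsg.Agent.Lib.Helper5.HNCert.Code

/-! # generated: certificates of the back end -/

set_option autoImplicit false
set_option maxRecDepth 1000000
set_option maxHeartbeats 40000000

namespace Cfsg.Agent.Lib.Helper5.HNCert

open Cfsg.Agent.Lib.Helper6.TC Cfsg.Agent.Lib.Helper6.NatArr Cfsg.Agent.Lib.Helper5.HNBack Cfsg.Agent.Lib.Lead.HNP.HNTC

theorem chk_cnt4_0 : cntF (inOrb codeT 4) (0 + 0 * 20480) 20480 = 4695 := by
  have h : cntLeaves codeT 4 0 20 = 4695 := by decide +kernel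
  rw [cntLeaves_eq] at h
  exact h

theorem chk_cnt4_1 : cntF (inOrb codeT 4) (0 + 1 * 20480) 20480 = 5105 := by
  have h : cntLeaves codeT 4 20 20 = 5105 := by decide +kernel
  rw [cntLeaves_eq] at h
  exact h

theorem chk_cnt4_2 : cntF (inOrb codeT 4) (0 + 2 * 20480) 20480 = 0 := by
  have h : cntLeaves codeT 4 40 20 = 0 := by decide +kernel
  rw [cntLeaves_eq] at h
  exact h

theorem chk_cnt4_3 : cntF (inOrb codeT 4) (0 + 3 * 20480) 20480 = 0 := by
  have h : cntLeaves codeT 4 60 20 = 0 := by decide +kernel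
  rw [cntLeaves_eq] at h
  exact h

theorem chk_cnt4_4 : cntF (inOrb codeT 4) (0 + 4 * 20480) 20480 = 0 := by
  have h : cntLeaves codeT 4 80 20 = 0 := by decide +kernel
  rw [cntLeaves_eq] at h
  exact h

theorem chk_cnt4_5 : cntF (inOrb codeT 4) (0 + 5 * 20480) 20480 = 0 := by
  have h : cntLeaves codeT 4 100 20 = 0 := by decide +kernel
  rw [cntLeaves_eq] at h
  exact h

theorem chk_cnt4_6 : cntF (inOrb codeT 4) (0 + 6 * 20480) 20480 = 0 := by
  have h : cntLeaves codeT 4 120 20 = 0 := by decide +kernel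
  rw [cntLeaves_eq] at h
  exact h

theorem chk_cnt4_7 : cntF (inOrb codeT 4) (0 + 7 * 20480) 20480 = 0 := by
  have h : cntLeaves codeT 4 140 20 = 0 := by decide +kernel
  rw [cntLeaves_eq] at h
  exact h

theorem chk_cnt4_8 : cntF (inOrb codeT 4) (0 + 8 * 20480) 20480 = 8118 := by
  have h : cntLeaves codeT 4 160 20 = 8118 := by decide +kernel
  rw [cntLeaves_eq] at h
  exact h

theorem chk_cnt4_9 : cntF (inOrb codeT 4) (0 + 9 * 20480) 20480 = 8192 := by
  have h : cntLeaves codeT 4 180 20 = 8192 := by decide +kernel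
  rw [cntLeaves_eq] at h
  exact h

theorem chk_cnt4_10 : cntF (inOrb codeT 4) (0 + 10 * 20480) 20480 = 8192 := by
  have h : cntLeaves codeT 4 200 20 = 8192 := by decide +kernel
  rw [cntLeaves_eq] at h
  exact h

theorem chk_cnt4_11 : cntF (inOrb codeT 4) (0 + 11 * 20480) 20480 = 8192 := by
  have h : cntLeaves codeT 4 220 20 = 8192 := by decide +kernel
  rw [cntLeaves_eq] at h
  exact h

theorem chk_cnt4_12 : cntF (inOrb codeT 4) (0 + 12 * 20480) 20480 = 8192 := by
  have h : cntLeaves codeT 4 240 20 = 8192 := by decide +kernel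
  rw [cntLeaves_eq] at h
  exact h

theorem chk_cnt4_13 : cntF (inOrb codeT 4) (0 + 13 * 20480) 20480 = 8192 := by
  have h : cntLeaves codeT 4 260 20 = 8192 := by decide +kernel
  rw [cntLeaves_eq] at h
  exact h

theorem chk_cnt4_14 : cntF (inOrb codeT 4) (0 + 14 * 20480) 20480 = 1322 := by
  have h : cntLeaves codeT 4 280 20 = 1322 := by decide +kernel
  rw [cntLeaves_eq] at h
  exact h

theorem chk_cnt4_15 : cntF (inOrb codeT 4) (0 + 15 * 20480) 20480 = 0 := by
  have h : cntLeaves codeT 4 300 20 = 0 := by decide +kernel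
  rw [cntLeaves_eq] at h
  exact h

theorem chk_cnt4_16 : cntF (inOrb codeT 4) (0 + 16 * 20480) 20480 = 0 := by
  have h : cntLeaves codeT 4 320 20 = 0 := by decide +kernel
  rw [cntLeaves_eq] at h
  exact h

theorem chk_cnt4_17 : cntF (inOrb codeT 4) (0 + 17 * 20480) 20480 = 0 := by
  have h : cntLeaves codeT 4 340 20 = 0 := by decide +kernel
  rw [cntLeaves_eq] at h
  exact h

theorem chk_cnt4_18 : cntF (inOrb codeT 4) (0 + 18 * 20480) 20480 = 0 := by
  have h : cntLeaves codeT 4 360 20 = 0 := by decide +kernel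
  rw [cntLeaves_eq] at h
  exact h

theorem chk_cnt4_19 : cntF (inOrb codeT 4) (0 + 19 * 20480) 20480 = 0 := by
  have h : cntLeaves codeT 4 380 20 = 0 := by decide +kernel
  rw [cntLeaves_eq] at h
  exact h

theorem chk_cnt4_20 : cntF (inOrb codeT 4) (0 + 20 * 20480) 20480 = 0 := by
  have h : cntLeaves codeT 4 400 20 = 0 := by decide +kernel
  rw [cntLeaves_eq] at h
  exact h

theorem chk_cnt4_21 : cntF (inOrb codeT 4) (0 + 21 * 20480) 20480 = 0 := by
  have h : cntLeaves codeT 4 420 20 = 0 := by decide +kernel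
  rw [cntLeaves_eq] at h
  exact h

theorem chk_cnt4_22 : cntF (inOrb codeT 4) (0 + 22 * 20480) 20480 = 0 := by
  have h : cntLeaves codeT 4 440 20 = 0 := by decide +kernel
  rw [cntLeaves_eq] at h
  exact h

theorem chk_cnt4_23 : cntF (inOrb codeT 4) (0 + 23 * 20480) 20480 = 0 := by
  have h : cntLeaves codeT 4 460 20 = 0 := by decide +kernel
  rw [cntLeaves_eq] at h
  exact h

theorem chk_cnt4_24 : cntF (inOrb codeT 4) (0 + 24 * 20480) 20480 = 0 := by
  have h : cntLeaves codeT 4 480 20 = 0 := by decide +kernel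
  rw [cntLeaves_eq] at h
  exact h

theorem chk_cnt4_25 : cntF (inOrb codeT 4) (0 + 25 * 20480) 20480 = 0 := by
  have h : cntLeaves codeT 4 500 20 = 0 := by decide +kernel
  rw [cntLeaves_eq] at h
  exact h

theorem chk_cnt4_26 : cntF (inOrb codeT 4) (0 + 26 * 20480) 20480 = 0 := by
  have h : cntLeaves codeT 4 520 20 = 0 := by decide +kernel
  rw [cntLeaves_eq] at h
  exact h

theorem chk_cnt4_27 : cntF (inOrb codeT 4) (0 + 27 * 20480) 20480 = 0 := by
  have h : cntLeaves codeT 4 540 20 = 0 := by decide +kernel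
  rw [cntLeaves_eq] at h
  exact h

theorem chk_cnt4_28 : cntF (inOrb codeT 4) (0 + 28 * 20480) 20480 = 0 := by
  have h : cntLeaves codeT 4 560 20 = 0 := by decide +kernel
  rw [cntLeaves_eq] at h
  exact h

theorem chk_cnt4_29 : cntF (inOrb codeT 4) (0 + 29 * 20480) 20480 = 0 := by
  have h : cntLeaves codeT 4 580 20 = 0 := by decide +kernel
  rw [cntLeaves_eq] at h
  exact h

theorem chk_cnt4_30 : cntF (inOrb codeT 4) (0 + 30 * 20480) 20480 = 0 := by
  have h : cntLeaves codeT 4 600 20 = 0 := by decide +kernel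
  rw [cntLeaves_eq] at h
  exact h

theorem chk_cnt4_31 : cntF (inOrb codeT 4) (0 + 31 * 20480) 20480 = 0 := by
  have h : cntLeaves codeT 4 620 20 = 0 := by decide +kernel
  rw [cntLeaves_eq] at h
  exact h

theorem chk_cnt4_32 : cntF (inOrb codeT 4) (0 + 32 * 20480) 20480 = 0 := by
  have h : cntLeaves codeT 4 640 20 = 0 := by decide +kernel
  rw [cntLeaves_eq] at h
  exact h

theorem chk_cnt4_33 : cntF (inOrb codeT 4) (0 + 33 * 20480) 20480 = 0 := by
  have h : cntLeaves codeT 4 660 20 = 0 := by decide +kernel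
  rw [cntLeaves_eq] at h
  exact h

theorem chk_cnt4_34 : cntF (inOrb codeT 4) (0 + 34 * 20480) 20480 = 0 := by
  have h : cntLeaves codeT 4 680 20 = 0 := by decide +kernel
  rw [cntLeaves_eq] at h
  exact h

theorem chk_cnt4_35 : cntF (inOrb codeT 4) (0 + 35 * 20480) 20480 = 0 := by
  have h : cntLeaves codeT 4 700 20 = 0 := by decide +kernel
  rw [cntLeaves_eq] at h
  exact h

theorem chk_cnt4_36 : cntF (inOrb codeT 4) (0 + 36 * 20480) 20480 = 0 := by
  have h : cntLeaves codeT 4 720 20 = 0 := by decide +kernel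
  rw [cntLeaves_eq] at h
  exact h

theorem chk_cnt4_37 : cntF (inOrb codeT 4) (0 + 37 * 20480) 20480 = 0 := by
  have h : cntLeaves codeT 4 740 20 = 0 := by decide +kernel
  rw [cntLeaves_eq] at h
  exact h

theorem chk_cnt4_38 : cntF (inOrb codeT 4) (0 + 38 * 20480) 20480 = 0 := by
  have h : cntLeaves codeT 4 760 20 = 0 := by decide +kernel
  rw [cntLeaves_eq] at h
  exact h

theorem chk_cnt4_39 : cntF (inOrb codeT 4) (0 + 39 * 20480) 20480 = 0 := by
  have h : cntLeaves codeT 4 780 20 = 0 := by decide +kernel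
  rw [cntLeaves_eq] at h
  exact h

theorem chk_cnt4_40 : cntF (inOrb codeT 4) (0 + 40 * 20480) 20480 = 0 := by
  have h : cntLeaves codeT 4 800 20 = 0 := by decide +kernel
  rw [cntLeaves_eq] at h
  exact h

theorem chk_cnt4_41 : cntF (inOrb codeT 4) (0 + 41 * 20480) 20480 = 0 := by
  have h : cntLeaves codeT 4 820 20 = 0 := by decide +kernel
  rw [cntLeaves_eq] at h
  exact h

theorem chk_cnt4_42 : cntF (inOrb codeT 4) (0 + 42 * 20480) 20480 = 0 := by
  have h : cntLeaves codeT 4 840 20 = 0 := by decide +kernel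
  rw [cntLeaves_eq] at h
  exact h

theorem chk_cnt4_43 : cntF (inOrb codeT 4) (0 + 43 * 20480) 20480 = 0 := by
  have h : cntLeaves codeT 4 860 20 = 0 := by decide +kernel
  rw [cntLeaves_eq] at h
  exact h

theorem chk_cnt4_44 : cntF (inOrb codeT 4) (0 + 44 * 20480) 20480 = 315 := by
  have h : cntLeaves codeT 4 880 20 = 315 := by decide +kernel
  rw [cntLeaves_eq] at h
  exact h

theorem chk_cnt4_45 : cntF (inOrb codeT 4) (0 + 45 * 20480) 20480 = 4096 := by
  have h : cntLeaves codeT 4 900 20 = 4096 := by decide +kernel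
  rw [cntLeaves_eq] at h
  exact h

theorem chk_cnt4_46 : cntF (inOrb codeT 4) (0 + 46 * 20480) 20480 = 4096 := by
  have h : cntLeaves codeT 4 920 20 = 4096 := by decide +kernel
  rw [cntLeaves_eq] at h
  exact h

theorem chk_cnt4_47 : cntF (inOrb codeT 4) (0 + 47 * 20480) 20480 = 4096 := by
  have h : cntLeaves codeT 4 940 20 = 4096 := by decide +kernel
  rw [cntLeaves_eq] at h
  exact h

theorem chk_cnt4_48 : cntF (inOrb codeT 4) (0 + 48 * 20480) 20480 = 4096 := by
  have h : cntLeaves codeT 4 960 20 = 4096 := by decide +kernel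
  rw [cntLeaves_eq] at h
  exact h

theorem chk_cnt4_49 : cntF (inOrb codeT 4) (0 + 49 * 20480) 20480 = 4096 := by
  have h : cntLeaves codeT 4 980 20 = 4096 := by decide +kernel
  rw [cntLeaves_eq] at h
  exact h

theorem chk_cnt4_50 : cntF (inOrb codeT 4) (0 + 50 * 20480) 20480 = 4096 := by
  have h : cntLeaves codeT 4 1000 20 = 4096 := by decide +kernel
  rw [cntLeaves_eq] at h
  exact h

theorem chk_cnt4_51 : cntF (inOrb codeT 4) (0 + 51 * 20480) 20480 = 4096 := by
  have h : cntLeaves codeT 4 1020 20 = 4096 := by decide +kernel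
  rw [cntLeaves_eq] at h
  exact h

theorem chk_cnt4_52 : cntF (inOrb codeT 4) (0 + 52 * 20480) 20480 = 4096 := by
  have h : cntLeaves codeT 4 1040 20 = 4096 := by decide +kernel
  rw [cntLeaves_eq] at h
  exact h

theorem chk_cnt4_53 : cntF (inOrb codeT 4) (0 + 53 * 20480) 20480 = 4096 := by
  have h : cntLeaves codeT 4 1060 20 = 4096 := by decide +kernel
  rw [cntLeaves_eq] at h
  exact h

theorem chk_cnt4_54 : cntF (inOrb codeT 4) (0 + 54 * 20480) 20480 = 4096 := by
  have h : cntLeaves codeT 4 1080 20 = 4096 := by decide +kernel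
  rw [cntLeaves_eq] at h
  exact h

theorem chk_cnt4_55 : cntF (inOrb codeT 4) (0 + 55 * 20480) 20480 = 4096 := by
  have h : cntLeaves codeT 4 1100 20 = 4096 := by decide +kernel
  rw [cntLeaves_eq] at h
  exact h

theorem chk_cnt4_56 : cntF (inOrb codeT 4) (0 + 56 * 20480) 20480 = 4096 := by
  have h : cntLeaves codeT 4 1120 20 = 4096 := by decide +kernel
  rw [cntLeaves_eq] at h
  exact h

theorem chk_cnt4_57 : cntF (inOrb codeT 4) (0 + 57 * 20480) 20480 = 4096 := by
  have h : cntLeaves codeT 4 1140 20 = 4096 := by decide +kernel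
  rw [cntLeaves_eq] at h
  exact h

theorem chk_cnt4_58 : cntF (inOrb codeT 4) (0 + 58 * 20480) 20480 = 4096 := by
  have h : cntLeaves codeT 4 1160 20 = 4096 := by decide +kernel
  rw [cntLeaves_eq] at h
  exact h

theorem chk_cnt4_59 : cntF (inOrb codeT 4) (0 + 59 * 20480) 20480 = 4096 := by
  have h : cntLeaves codeT 4 1180 20 = 4096 := by decide +kernel
  rw [cntLeaves_eq] at h
  exact h

theorem chk_cnt4_60 : cntF (inOrb codeT 4) (0 + 60 * 20480) 20480 = 1245 := by
  have h : cntLeaves codeT 4 1200 20 = 1245 := by decide +kernel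
  rw [cntLeaves_eq] at h
  exact h

theorem chk_cnt4_61 : cntF (inOrb codeT 4) (0 + 61 * 20480) 20480 = 0 := by
  have h : cntLeaves codeT 4 1220 20 = 0 := by decide +kernel
  rw [cntLeaves_eq] at h
  exact h

theorem chk_cnt4_62 : cntF (inOrb codeT 4) (0 + 62 * 20480) 20480 = 0 := by
  have h : cntLeaves codeT 4 1240 20 = 0 := by decide +kernel
  rw [cntLeaves_eq] at h
  exact h

theorem chk_cnt4_63 : cntF (inOrb codeT 4) (0 + 63 * 20480) 20480 = 0 := by
  have h : cntLeaves codeT 4 1260 20 = 0 := by decide +kernel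
  rw [cntLeaves_eq] at h
  exact h

theorem chk_cnt4_64 : cntF (inOrb codeT 4) (0 + 64 * 20480) 20480 = 0 := by
  have h : cntLeaves codeT 4 1280 20 = 0 := by decide +kernel
  rw [cntLeaves_eq] at h
  exact h

theorem chk_cnt4_65 : cntF (inOrb codeT 4) (0 + 65 * 20480) 20480 = 0 := by
  have h : cntLeaves codeT 4 1300 20 = 0 := by decide +kernel
  rw [cntLeaves_eq] at h
  exact h

theorem chk_cnt4_66 : cntF (inOrb codeT 4) (0 + 66 * 20480) 20480 = 0 := by
  have h : cntLeaves codeT 4 1320 20 = 0 := by decide +kernel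
  rw [cntLeaves_eq] at h
  exact h

theorem chk_cnt4_67 : cntF (inOrb codeT 4) (0 + 67 * 20480) 20480 = 0 := by
  have h : cntLeaves codeT 4 1340 20 = 0 := by decide +kernel
  rw [cntLeaves_eq] at h
  exact h

theorem chk_cnt4_68 : cntF (inOrb codeT 4) (0 + 68 * 20480) 20480 = 0 := by
  have h : cntLeaves codeT 4 1360 20 = 0 := by decide +kernel
  rw [cntLeaves_eq] at h
  exact h

theorem chk_cnt4_69 : cntF (inOrb codeT 4) (0 + 69 * 20480) 20480 = 0 := by
  have h : cntLeaves codeT 4 1380 20 = 0 := by decide +kernel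
  rw [cntLeaves_eq] at h
  exact h

theorem chk_cnt4_70 : cntF (inOrb codeT 4) (0 + 70 * 20480) 20480 = 0 := by
  have h : cntLeaves codeT 4 1400 20 = 0 := by decide +kernel
  rw [cntLeaves_eq] at h
  exact h

theorem chk_cnt4_71 : cntF (inOrb codeT 4) (0 + 71 * 20480) 20480 = 0 := by
  have h : cntLeaves codeT 4 1420 20 = 0 := by decide +kernel
  rw [cntLeaves_eq] at h
  exact h

theorem chk_cnt4_72 : cntF (inOrb codeT 4) (0 + 72 * 20480) 20480 = 0 := by
  have h : cntLeaves codeT 4 1440 20 = 0 := by decide +kernel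
  rw [cntLeaves_eq] at h
  exact h

theorem chk_cnt4_73 : cntF (inOrb codeT 4) (0 + 73 * 20480) 20480 = 0 := by
  have h : cntLeaves codeT 4 1460 20 = 0 := by decide +kernel
  rw [cntLeaves_eq] at h
  exact h

theorem chk_cnt4_74 : cntF (inOrb codeT 4) (0 + 74 * 20480) 20480 = 0 := by
  have h : cntLeaves codeT 4 1480 20 = 0 := by decide +kernel
  rw [cntLeaves_eq] at h
  exact h

theorem chk_cnt4_last : cntF (inOrb codeT 4) (0 + 75 * 20480) 3000 = 0 := by decide +kernel

theorem cnt4 : cntF (inOrb codeT 4) 0 1539000 = 123200 := by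
  have e : (1539000 : ℕ) = ([4695, 5105, 0, 0, 0, 0, 0, 0, 8118, 8192, 8192, 8192, 8192, 8192, 1322, 0, 0, 0, 0, 0, 0, 0, 0, 0, 0, 0, 0, 0, 0, 0, 0, 0, 0, 0, 0, 0, 0, 0, 0, 0, 0, 0, 0, 0, 315, 4096, 4096, 4096, 4096, 4096, 4096, 4096, 4096, 4096, 4096, 4096, 4096, 4096, 4096, 4096, 1245, 0, 0, 0, 0, 0, 0, 0, 0, 0, 0, 0, 0, 0, 0] : List ℕ).length * 20480 + 3000 := by norm_num
  rw [e, cntF_add, cntF_of_chunks (inOrb codeT 4) 20480 [4695, 5105, 0, 0, 0, 0, 0, 0, 8118, 8192, 8192, 8192, 8192, 8192, 1322, 0, 0, 0, 0, 0, 0, 0, 0, 0, 0, 0, 0, 0, 0, 0, 0, 0, 0, 0, 0, 0, 0, 0, 0, 0, 0, 0, 0, 0, 315, 4096, 4096, 4096, 4096, 4096, 4096, 4096, 4096, 4096, 4096, 4096, 4096, 4096, 4096, 4096, 1245, 0, 0, 0, 0, 0, 0, 0, 0, 0, 0, 0, 0, 0, 0] 0 ?_]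
  · have e2 : 0 + ([4695, 5105, 0, 0, 0, 0, 0, 0, 8118, 8192, 8192, 8192, 8192, 8192, 1322, 0, 0, 0, 0, 0, 0, 0, 0, 0, 0, 0, 0, 0, 0, 0, 0, 0, 0, 0, 0, 0, 0, 0, 0, 0, 0, 0, 0, 0, 315, 4096, 4096, 4096, 4096, 4096, 4096, 4096, 4096, 4096, 4096, 4096, 4096, 4096, 4096, 4096, 1245, 0, 0, 0, 0, 0, 0, 0, 0, 0, 0, 0, 0, 0, 0] : List ℕ).length * 20480 = 0 + 75 * 20480 := by norm_num
    rw [e2, chk_cnt4_last]
    norm_num
  · intro k hk
    have hk' : k < 75 := by simpa using hk
    interval_cases k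
    · exact chk_cnt4_0
    · exact chk_cnt4_1
    · exact chk_cnt4_2
    · exact chk_cnt4_3
    · exact chk_cnt4_4
    · exact chk_cnt4_5
    · exact chk_cnt4_6
    · exact chk_cnt4_7
    · exact chk_cnt4_8
    · exact chk_cnt4_9
    · exact chk_cnt4_10
    · exact chk_cnt4_11
    · exact chk_cnt4_12
    · exact chk_cnt4_13
    · exact chk_cnt4_14
    · exact chk_cnt4_15
    · exact chk_cnt4_16
    · exact chk_cnt4_17
    · exact chk_cnt4_18
    · exact chk_cnt4_19
    · exact chk_cnt4_20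
    · exact chk_cnt4_21
    · exact chk_cnt4_22
    · exact chk_cnt4_23
    · exact chk_cnt4_24
    · exact chk_cnt4_25
    · exact chk_cnt4_26
    · exact chk_cnt4_27
    · exact chk_cnt4_28
    · exact chk_cnt4_29
    · exact chk_cnt4_30
    · exact chk_cnt4_31
    · exact chk_cnt4_32
    · exact chk_cnt4_33
    · exact chk_cnt4_34
    · exact chk_cnt4_35
    · exact chk_cnt4_36
    · exact chk_cnt4_37
    · exact chk_cnt4_38
    · exact chk_cnt4_39
    · exact chk_cnt4_40
    · exact chk_cnt4_41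
    · exact chk_cnt4_42
    · exact chk_cnt4_43
    · exact chk_cnt4_44
    · exact chk_cnt4_45
    · exact chk_cnt4_46
    · exact chk_cnt4_47
    · exact chk_cnt4_48
    · exact chk_cnt4_49
    · exact chk_cnt4_50
    · exact chk_cnt4_51
    · exact chk_cnt4_52
    · exact chk_cnt4_53
    · exact chk_cnt4_54
    · exact chk_cnt4_55
    · exact chk_cnt4_56
    · exact chk_cnt4_57
    · exact chk_cnt4_58
    · exact chk_cnt4_59
    · exact chk_cnt4_60
    · exact chk_cnt4_61
    · exact chk_cnt4_62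
    · exact chk_cnt4_63
    · exact chk_cnt4_64
    · exact chk_cnt4_65
    · exact chk_cnt4_66
    · exact chk_cnt4_67
    · exact chk_cnt4_68
    · exact chk_cnt4_69
    · exact chk_cnt4_70
    · exact chk_cnt4_71
    · exact chk_cnt4_72
    · exact chk_cnt4_73
    · exact chk_cnt4_74

end Cfsg.Agent.Lib.Helper5.HNCert
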