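import Cfsg.Agent.Lib.Helper5.HNCert.Code

/-! # generated: certificates of the back end -/

set_option autoImplicit false
set_option maxRecDepth 1000000
set_option maxHeartbeats 40000000

namespace Cfsg.Agent.Lib.Helper5.HNCert

open Cfsg.Agent.Lib.Helper6.TC Cfsg.Agent.Lib.Helper6.NatArr Cfsg.Agent.Lib.Helper5.HNBack Cfsg.Agent.Lib.Lead.HNP.HNTC

theorem chk_cnt5_0 : cntF (inOrb codeT 5) (0 + 0 * 20480) 20480 = 6590 := by
  have h : cntLeaves codeT 5 0 20 = 6590 := by decide +kernel
  rw [cntLeaves_eq] at h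
  exact h

theorem chk_cnt5_1 : cntF (inOrb codeT 5) (0 + 1 * 20480) 20480 = 7184 := by
  have h : cntLeaves codeT 5 20 20 = 7184 := by decide +kernel
  rw [cntLeaves_eq] at h
  exact h

theorem chk_cnt5_2 : cntF (inOrb codeT 5) (0 + 2 * 20480) 20480 = 8192 := by
  have h : cntLeaves codeT 5 40 20 = 8192 := by decide +kernel
  rw [cntLeaves_eq] at h
  exact h

theorem chk_cnt5_3 : cntF (inOrb codeT 5) (0 + 3 * 20480) 20480 = 8192 := by
  have h : cntLeaves codeT 5 60 20 = 8192 := by decide +kernel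
  rw [cntLeaves_eq] at h
  exact h

theorem chk_cnt5_4 : cntF (inOrb codeT 5) (0 + 4 * 20480) 20480 = 8192 := by
  have h : cntLeaves codeT 5 80 20 = 8192 := by decide +kernel
  rw [cntLeaves_eq] at h
  exact h

theorem chk_cnt5_5 : cntF (inOrb codeT 5) (0 + 5 * 20480) 20480 = 8192 := by
  have h : cntLeaves codeT 5 100 20 = 8192 := by decide +kernel
  rw [cntLeaves_eq] at h
  exact h

theorem chk_cnt5_6 : cntF (inOrb codeT 5) (0 + 6 * 20480) 20480 = 8192 := by
  have h : cntLeaves codeT 5 120 20 = 8192 := by decide +kernel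
  rw [cntLeaves_eq] at h
  exact h

theorem chk_cnt5_7 : cntF (inOrb codeT 5) (0 + 7 * 20480) 20480 = 8192 := by
  have h : cntLeaves codeT 5 140 20 = 8192 := by decide +kernel
  rw [cntLeaves_eq] at h
  exact h

theorem chk_cnt5_8 : cntF (inOrb codeT 5) (0 + 8 * 20480) 20480 = 4133 := by
  have h : cntLeaves codeT 5 160 20 = 4133 := by decide +kernel
  rw [cntLeaves_eq] at h
  exact h

theorem chk_cnt5_9 : cntF (inOrb codeT 5) (0 + 9 * 20480) 20480 = 4096 := by
  have h : cntLeaves codeT 5 180 20 = 4096 := by decide +kernel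
  rw [cntLeaves_eq] at h
  exact h

theorem chk_cnt5_10 : cntF (inOrb codeT 5) (0 + 10 * 20480) 20480 = 4096 := by
  have h : cntLeaves codeT 5 200 20 = 4096 := by decide +kernel
  rw [cntLeaves_eq] at h
  exact h

theorem chk_cnt5_11 : cntF (inOrb codeT 5) (0 + 11 * 20480) 20480 = 4096 := by
  have h : cntLeaves codeT 5 220 20 = 4096 := by decide +kernel
  rw [cntLeaves_eq] at h
  exact h

theorem chk_cnt5_12 : cntF (inOrb codeT 5) (0 + 12 * 20480) 20480 = 4096 := by
  have h : cntLeaves codeT 5 240 20 = 4096 := by decide +kernel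
  rw [cntLeaves_eq] at h
  exact h

theorem chk_cnt5_13 : cntF (inOrb codeT 5) (0 + 13 * 20480) 20480 = 4096 := by
  have h : cntLeaves codeT 5 260 20 = 4096 := by decide +kernel
  rw [cntLeaves_eq] at h
  exact h

theorem chk_cnt5_14 : cntF (inOrb codeT 5) (0 + 14 * 20480) 20480 = 7531 := by
  have h : cntLeaves codeT 5 280 20 = 7531 := by decide +kernel
  rw [cntLeaves_eq] at h
  exact h

theorem chk_cnt5_15 : cntF (inOrb codeT 5) (0 + 15 * 20480) 20480 = 8192 := by
  have h : cntLeaves codeT 5 300 20 = 8192 := by decide +kernel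
  rw [cntLeaves_eq] at h
  exact h

theorem chk_cnt5_16 : cntF (inOrb codeT 5) (0 + 16 * 20480) 20480 = 8192 := by
  have h : cntLeaves codeT 5 320 20 = 8192 := by decide +kernel
  rw [cntLeaves_eq] at h
  exact h

theorem chk_cnt5_17 : cntF (inOrb codeT 5) (0 + 17 * 20480) 20480 = 8192 := by
  have h : cntLeaves codeT 5 340 20 = 8192 := by decide +kernel
  rw [cntLeaves_eq] at h
  exact h

theorem chk_cnt5_18 : cntF (inOrb codeT 5) (0 + 18 * 20480) 20480 = 8192 := by
  have h : cntLeaves codeT 5 360 20 = 8192 := by decide +kernel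
  rw [cntLeaves_eq] at h
  exact h

theorem chk_cnt5_19 : cntF (inOrb codeT 5) (0 + 19 * 20480) 20480 = 8192 := by
  have h : cntLeaves codeT 5 380 20 = 8192 := by decide +kernel
  rw [cntLeaves_eq] at h
  exact h

theorem chk_cnt5_20 : cntF (inOrb codeT 5) (0 + 20 * 20480) 20480 = 8192 := by
  have h : cntLeaves codeT 5 400 20 = 8192 := by decide +kernel
  rw [cntLeaves_eq] at h
  exact h

theorem chk_cnt5_21 : cntF (inOrb codeT 5) (0 + 21 * 20480) 20480 = 8192 := by
  have h : cntLeaves codeT 5 420 20 = 8192 := by decide +kernel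
  rw [cntLeaves_eq] at h
  exact h

theorem chk_cnt5_22 : cntF (inOrb codeT 5) (0 + 22 * 20480) 20480 = 8192 := by
  have h : cntLeaves codeT 5 440 20 = 8192 := by decide +kernel
  rw [cntLeaves_eq] at h
  exact h

theorem chk_cnt5_23 : cntF (inOrb codeT 5) (0 + 23 * 20480) 20480 = 8192 := by
  have h : cntLeaves codeT 5 460 20 = 8192 := by decide +kernel
  rw [cntLeaves_eq] at h
  exact h

theorem chk_cnt5_24 : cntF (inOrb codeT 5) (0 + 24 * 20480) 20480 = 8192 := by
  have h : cntLeaves codeT 5 480 20 = 8192 := by decide +kernel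
  rw [cntLeaves_eq] at h
  exact h

theorem chk_cnt5_25 : cntF (inOrb codeT 5) (0 + 25 * 20480) 20480 = 8192 := by
  have h : cntLeaves codeT 5 500 20 = 8192 := by decide +kernel
  rw [cntLeaves_eq] at h
  exact h

theorem chk_cnt5_26 : cntF (inOrb codeT 5) (0 + 26 * 20480) 20480 = 8192 := by
  have h : cntLeaves codeT 5 520 20 = 8192 := by decide +kernel
  rw [cntLeaves_eq] at h
  exact h

theorem chk_cnt5_27 : cntF (inOrb codeT 5) (0 + 27 * 20480) 20480 = 8192 := by
  have h : cntLeaves codeT 5 540 20 = 8192 := by decide +kernel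
  rw [cntLeaves_eq] at h
  exact h

theorem chk_cnt5_28 : cntF (inOrb codeT 5) (0 + 28 * 20480) 20480 = 8192 := by
  have h : cntLeaves codeT 5 560 20 = 8192 := by decide +kernel
  rw [cntLeaves_eq] at h
  exact h

theorem chk_cnt5_29 : cntF (inOrb codeT 5) (0 + 29 * 20480) 20480 = 8192 := by
  have h : cntLeaves codeT 5 580 20 = 8192 := by decide +kernel
  rw [cntLeaves_eq] at h
  exact h

theorem chk_cnt5_30 : cntF (inOrb codeT 5) (0 + 30 * 20480) 20480 = 8192 := by
  have h : cntLeaves codeT 5 600 20 = 8192 := by decide +kernel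
  rw [cntLeaves_eq] at h
  exact h

theorem chk_cnt5_31 : cntF (inOrb codeT 5) (0 + 31 * 20480) 20480 = 8192 := by
  have h : cntLeaves codeT 5 620 20 = 8192 := by decide +kernel
  rw [cntLeaves_eq] at h
  exact h

theorem chk_cnt5_32 : cntF (inOrb codeT 5) (0 + 32 * 20480) 20480 = 8192 := by
  have h : cntLeaves codeT 5 640 20 = 8192 := by decide +kernel
  rw [cntLeaves_eq] at h
  exact h

theorem chk_cnt5_33 : cntF (inOrb codeT 5) (0 + 33 * 20480) 20480 = 8192 := by
  have h : cntLeaves codeT 5 660 20 = 8192 := by decide +kernel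
  rw [cntLeaves_eq] at h
  exact h

theorem chk_cnt5_34 : cntF (inOrb codeT 5) (0 + 34 * 20480) 20480 = 8192 := by
  have h : cntLeaves codeT 5 680 20 = 8192 := by decide +kernel
  rw [cntLeaves_eq] at h
  exact h

theorem chk_cnt5_35 : cntF (inOrb codeT 5) (0 + 35 * 20480) 20480 = 8192 := by
  have h : cntLeaves codeT 5 700 20 = 8192 := by decide +kernel
  rw [cntLeaves_eq] at h
  exact h

theorem chk_cnt5_36 : cntF (inOrb codeT 5) (0 + 36 * 20480) 20480 = 8192 := by
  have h : cntLeaves codeT 5 720 20 = 8192 := by decide +kernel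
  rw [cntLeaves_eq] at h
  exact h

theorem chk_cnt5_37 : cntF (inOrb codeT 5) (0 + 37 * 20480) 20480 = 8192 := by
  have h : cntLeaves codeT 5 740 20 = 8192 := by decide +kernel
  rw [cntLeaves_eq] at h
  exact h

theorem chk_cnt5_38 : cntF (inOrb codeT 5) (0 + 38 * 20480) 20480 = 8192 := by
  have h : cntLeaves codeT 5 760 20 = 8192 := by decide +kernel
  rw [cntLeaves_eq] at h
  exact h

theorem chk_cnt5_39 : cntF (inOrb codeT 5) (0 + 39 * 20480) 20480 = 8192 := by
  have h : cntLeaves codeT 5 780 20 = 8192 := by decide +kernel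
  rw [cntLeaves_eq] at h
  exact h

theorem chk_cnt5_40 : cntF (inOrb codeT 5) (0 + 40 * 20480) 20480 = 8192 := by
  have h : cntLeaves codeT 5 800 20 = 8192 := by decide +kernel
  rw [cntLeaves_eq] at h
  exact h

theorem chk_cnt5_41 : cntF (inOrb codeT 5) (0 + 41 * 20480) 20480 = 8192 := by
  have h : cntLeaves codeT 5 820 20 = 8192 := by decide +kernel
  rw [cntLeaves_eq] at h
  exact h

theorem chk_cnt5_42 : cntF (inOrb codeT 5) (0 + 42 * 20480) 20480 = 8192 := by
  have h : cntLeaves codeT 5 840 20 = 8192 := by decide +kernel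
  rw [cntLeaves_eq] at h
  exact h

theorem chk_cnt5_43 : cntF (inOrb codeT 5) (0 + 43 * 20480) 20480 = 8192 := by
  have h : cntLeaves codeT 5 860 20 = 8192 := by decide +kernel
  rw [cntLeaves_eq] at h
  exact h

theorem chk_cnt5_44 : cntF (inOrb codeT 5) (0 + 44 * 20480) 20480 = 8192 := by
  have h : cntLeaves codeT 5 880 20 = 8192 := by decide +kernel
  rw [cntLeaves_eq] at h
  exact h

theorem chk_cnt5_45 : cntF (inOrb codeT 5) (0 + 45 * 20480) 20480 = 8192 := by
  have h : cntLeaves codeT 5 900 20 = 8192 := by decide +kernel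
  rw [cntLeaves_eq] at h
  exact h

theorem chk_cnt5_46 : cntF (inOrb codeT 5) (0 + 46 * 20480) 20480 = 8192 := by
  have h : cntLeaves codeT 5 920 20 = 8192 := by decide +kernel
  rw [cntLeaves_eq] at h
  exact h

theorem chk_cnt5_47 : cntF (inOrb codeT 5) (0 + 47 * 20480) 20480 = 8192 := by
  have h : cntLeaves codeT 5 940 20 = 8192 := by decide +kernel
  rw [cntLeaves_eq] at h
  exact h

theorem chk_cnt5_48 : cntF (inOrb codeT 5) (0 + 48 * 20480) 20480 = 8192 := by
  have h : cntLeaves codeT 5 960 20 = 8192 := by decide +kernel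
  rw [cntLeaves_eq] at h
  exact h

theorem chk_cnt5_49 : cntF (inOrb codeT 5) (0 + 49 * 20480) 20480 = 8192 := by
  have h : cntLeaves codeT 5 980 20 = 8192 := by decide +kernel
  rw [cntLeaves_eq] at h
  exact h

theorem chk_cnt5_50 : cntF (inOrb codeT 5) (0 + 50 * 20480) 20480 = 8192 := by
  have h : cntLeaves codeT 5 1000 20 = 8192 := by decide +kernel
  rw [cntLeaves_eq] at h
  exact h

theorem chk_cnt5_51 : cntF (inOrb codeT 5) (0 + 51 * 20480) 20480 = 8192 := by
  have h : cntLeaves codeT 5 1020 20 = 8192 := by decide +kernel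
  rw [cntLeaves_eq] at h
  exact h

theorem chk_cnt5_52 : cntF (inOrb codeT 5) (0 + 52 * 20480) 20480 = 8192 := by
  have h : cntLeaves codeT 5 1040 20 = 8192 := by decide +kernel
  rw [cntLeaves_eq] at h
  exact h

theorem chk_cnt5_53 : cntF (inOrb codeT 5) (0 + 53 * 20480) 20480 = 8192 := by
  have h : cntLeaves codeT 5 1060 20 = 8192 := by decide +kernel
  rw [cntLeaves_eq] at h
  exact h

theorem chk_cnt5_54 : cntF (inOrb codeT 5) (0 + 54 * 20480) 20480 = 8192 := by
  have h : cntLeaves codeT 5 1080 20 = 8192 := by decide +kernel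
  rw [cntLeaves_eq] at h
  exact h

theorem chk_cnt5_55 : cntF (inOrb codeT 5) (0 + 55 * 20480) 20480 = 8192 := by
  have h : cntLeaves codeT 5 1100 20 = 8192 := by decide +kernel
  rw [cntLeaves_eq] at h
  exact h

theorem chk_cnt5_56 : cntF (inOrb codeT 5) (0 + 56 * 20480) 20480 = 8192 := by
  have h : cntLeaves codeT 5 1120 20 = 8192 := by decide +kernel
  rw [cntLeaves_eq] at h
  exact h

theorem chk_cnt5_57 : cntF (inOrb codeT 5) (0 + 57 * 20480) 20480 = 8192 := by
  have h : cntLeaves codeT 5 1140 20 = 8192 := by decide +kernel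
  rw [cntLeaves_eq] at h
  exact h

theorem chk_cnt5_58 : cntF (inOrb codeT 5) (0 + 58 * 20480) 20480 = 8192 := by
  have h : cntLeaves codeT 5 1160 20 = 8192 := by decide +kernel
  rw [cntLeaves_eq] at h
  exact h

theorem chk_cnt5_59 : cntF (inOrb codeT 5) (0 + 59 * 20480) 20480 = 8192 := by
  have h : cntLeaves codeT 5 1180 20 = 8192 := by decide +kernel
  rw [cntLeaves_eq] at h
  exact h

theorem chk_cnt5_60 : cntF (inOrb codeT 5) (0 + 60 * 20480) 20480 = 13894 := by
  have h : cntLeaves codeT 5 1200 20 = 13894 := by decide +kernel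
  rw [cntLeaves_eq] at h
  exact h

theorem chk_cnt5_61 : cntF (inOrb codeT 5) (0 + 61 * 20480) 20480 = 18081 := by
  have h : cntLeaves codeT 5 1220 20 = 18081 := by decide +kernel
  rw [cntLeaves_eq] at h
  exact h

theorem chk_cnt5_62 : cntF (inOrb codeT 5) (0 + 62 * 20480) 20480 = 20480 := by
  have h : cntLeaves codeT 5 1240 20 = 20480 := by decide +kernel
  rw [cntLeaves_eq] at h
  exact h

theorem chk_cnt5_63 : cntF (inOrb codeT 5) (0 + 63 * 20480) 20480 = 20480 := by
  have h : cntLeaves codeT 5 1260 20 = 20480 := by decide +kernel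
  rw [cntLeaves_eq] at h
  exact h

theorem chk_cnt5_64 : cntF (inOrb codeT 5) (0 + 64 * 20480) 20480 = 20480 := by
  have h : cntLeaves codeT 5 1280 20 = 20480 := by decide +kernel
  rw [cntLeaves_eq] at h
  exact h

theorem chk_cnt5_65 : cntF (inOrb codeT 5) (0 + 65 * 20480) 20480 = 20480 := by
  have h : cntLeaves codeT 5 1300 20 = 20480 := by decide +kernel
  rw [cntLeaves_eq] at h
  exact h

theorem chk_cnt5_66 : cntF (inOrb codeT 5) (0 + 66 * 20480) 20480 = 20480 := by
  have h : cntLeaves codeT 5 1320 20 = 20480 := by decide +kernel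
  rw [cntLeaves_eq] at h
  exact h

theorem chk_cnt5_67 : cntF (inOrb codeT 5) (0 + 67 * 20480) 20480 = 20480 := by
  have h : cntLeaves codeT 5 1340 20 = 20480 := by decide +kernel
  rw [cntLeaves_eq] at h
  exact h

theorem chk_cnt5_68 : cntF (inOrb codeT 5) (0 + 68 * 20480) 20480 = 20480 := by
  have h : cntLeaves codeT 5 1360 20 = 20480 := by decide +kernel
  rw [cntLeaves_eq] at h
  exact h

theorem chk_cnt5_69 : cntF (inOrb codeT 5) (0 + 69 * 20480) 20480 = 20480 := by
  have h : cntLeaves codeT 5 1380 20 = 20480 := by decide +kernel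
  rw [cntLeaves_eq] at h
  exact h

theorem chk_cnt5_70 : cntF (inOrb codeT 5) (0 + 70 * 20480) 20480 = 20480 := by
  have h : cntLeaves codeT 5 1400 20 = 20480 := by decide +kernel
  rw [cntLeaves_eq] at h
  exact h

theorem chk_cnt5_71 : cntF (inOrb codeT 5) (0 + 71 * 20480) 20480 = 20480 := by
  have h : cntLeaves codeT 5 1420 20 = 20480 := by decide +kernel
  rw [cntLeaves_eq] at h
  exact h

theorem chk_cnt5_72 : cntF (inOrb codeT 5) (0 + 72 * 20480) 20480 = 20480 := by
  have h : cntLeaves codeT 5 1440 20 = 20480 := by decide +kernel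
  rw [cntLeaves_eq] at h
  exact h

theorem chk_cnt5_73 : cntF (inOrb codeT 5) (0 + 73 * 20480) 20480 = 18235 := by
  have h : cntLeaves codeT 5 1460 20 = 18235 := by decide +kernel
  rw [cntLeaves_eq] at h
  exact h

theorem chk_cnt5_74 : cntF (inOrb codeT 5) (0 + 74 * 20480) 20480 = 0 := by
  have h : cntLeaves codeT 5 1480 20 = 0 := by decide +kernel
  rw [cntLeaves_eq] at h
  exact h

theorem chk_cnt5_last : cntF (inOrb codeT 5) (0 + 75 * 20480) 3000 = 0 := by decide +kernel

theorem cnt5 : cntF (inOrb codeT 5) 0 1539000 = 739200 := by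
  have e : (1539000 : ℕ) = ([6590, 7184, 8192, 8192, 8192, 8192, 8192, 8192, 4133, 4096, 4096, 4096, 4096, 4096, 7531, 8192, 8192, 8192, 8192, 8192, 8192, 8192, 8192, 8192, 8192, 8192, 8192, 8192, 8192, 8192, 8192, 8192, 8192, 8192, 8192, 8192, 8192, 8192, 8192, 8192, 8192, 8192, 8192, 8192, 8192, 8192, 8192, 8192, 8192, 8192, 8192, 8192, 8192, 8192, 8192, 8192, 8192, 8192, 8192, 8192, 13894, 18081, 20480, 20480, 20480, 20480, 20480, 20480, 20480, 20480, 20480, 20480, 20480, 18235, 0] : List ℕ).length * 20480 + 3000 := by norm_num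
  rw [e, cntF_add, cntF_of_chunks (inOrb codeT 5) 20480 [6590, 7184, 8192, 8192, 8192, 8192, 8192, 8192, 4133, 4096, 4096, 4096, 4096, 4096, 7531, 8192, 8192, 8192, 8192, 8192, 8192, 8192, 8192, 8192, 8192, 8192, 8192, 8192, 8192, 8192, 8192, 8192, 8192, 8192, 8192, 8192, 8192, 8192, 8192, 8192, 8192, 8192, 8192, 8192, 8192, 8192, 8192, 8192, 8192, 8192, 8192, 8192, 8192, 8192, 8192, 8192, 8192, 8192, 8192, 8192, 13894, 18081, 20480, 20480, 20480, 20480, 20480, 20480, 20480, 20480, 20480, 20480, 20480, 18235, 0] 0 ?_]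
  · have e2 : 0 + ([6590, 7184, 8192, 8192, 8192, 8192, 8192, 8192, 4133, 4096, 4096, 4096, 4096, 4096, 7531, 8192, 8192, 8192, 8192, 8192, 8192, 8192, 8192, 8192, 8192, 8192, 8192, 8192, 8192, 8192, 8192, 8192, 8192, 8192, 8192, 8192, 8192, 8192, 8192, 8192, 8192, 8192, 8192, 8192, 8192, 8192, 8192, 8192, 8192, 8192, 8192, 8192, 8192, 8192, 8192, 8192, 8192, 8192, 8192, 8192, 13894, 18081, 20480, 20480, 20480, 20480, 20480, 20480, 20480, 20480, 20480, 20480, 20480, 18235, 0] : List ℕ).length * 20480 = 0 + 75 * 20480 := by norm_num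
    rw [e2, chk_cnt5_last]
    norm_num
  · intro k hk
    have hk' : k < 75 := by simpa using hk
    interval_cases k
    · exact chk_cnt5_0
    · exact chk_cnt5_1
    · exact chk_cnt5_2
    · exact chk_cnt5_3
    · exact chk_cnt5_4
    · exact chk_cnt5_5
    · exact chk_cnt5_6
    · exact chk_cnt5_7
    · exact chk_cnt5_8
    · exact chk_cnt5_9
    · exact chk_cnt5_10
    · exact chk_cnt5_11
    · exact chk_cnt5_12
    · exact chk_cnt5_13
    · exact chk_cnt5_14
    · exact chk_cnt5_15
    · exact chk_cnt5_16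
    · exact chk_cnt5_17
    · exact chk_cnt5_18
    · exact chk_cnt5_19
    · exact chk_cnt5_20
    · exact chk_cnt5_21
    · exact chk_cnt5_22
    · exact chk_cnt5_23
    · exact chk_cnt5_24
    · exact chk_cnt5_25
    · exact chk_cnt5_26
    · exact chk_cnt5_27
    · exact chk_cnt5_28
    · exact chk_cnt5_29
    · exact chk_cnt5_30
    · exact chk_cnt5_31
    · exact chk_cnt5_32
    · exact chk_cnt5_33
    · exact chk_cnt5_34
    · exact chk_cnt5_35
    · exact chk_cnt5_36
    · exact chk_cnt5_37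
    · exact chk_cnt5_38
    · exact chk_cnt5_39
    · exact chk_cnt5_40
    · exact chk_cnt5_41
    · exact chk_cnt5_42
    · exact chk_cnt5_43
    · exact chk_cnt5_44
    · exact chk_cnt5_45
    · exact chk_cnt5_46
    · exact chk_cnt5_47
    · exact chk_cnt5_48
    · exact chk_cnt5_49
    · exact chk_cnt5_50
    · exact chk_cnt5_51
    · exact chk_cnt5_52
    · exact chk_cnt5_53
    · exact chk_cnt5_54
    · exact chk_cnt5_55
    · exact chk_cnt5_56
    · exact chk_cnt5_57
    · exact chk_cnt5_58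
    · exact chk_cnt5_59
    · exact chk_cnt5_60
    · exact chk_cnt5_61
    · exact chk_cnt5_62
    · exact chk_cnt5_63
    · exact chk_cnt5_64
    · exact chk_cnt5_65
    · exact chk_cnt5_66
    · exact chk_cnt5_67
    · exact chk_cnt5_68
    · exact chk_cnt5_69
    · exact chk_cnt5_70
    · exact chk_cnt5_71
    · exact chk_cnt5_72
    · exact chk_cnt5_73
    · exact chk_cnt5_74

end Cfsg.Agent.Lib.Helper5.HNCert
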