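import Cfsg.Agent.Lib.Helper5.HNCert.Code

/-! # generated: certificates of the back end -/

set_option autoImplicit false
set_option maxRecDepth 1000000
set_option maxHeartbeats 40000000

namespace Cfsg.Agent.Lib.Helper5.HNCert

open Cfsg.Agent.Lib.Helper6.TC Cfsg.Agent.Lib.Helper6.NatArr Cfsg.Agent.Lib.Helper5.HNBack Cfsg.Agent.Lib.Lead.HNP.HNTC

theorem chk_cnt6_0 : cntF (inOrb codeT 6) (0 + 0 * 20480) 20480 = 0 := by
  have h : cntLeaves codeT 6 0 20 = 0 := by decide +kernel
  rw [cntLeaves_eq] at h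
  exact h

theorem chk_cnt6_1 : cntF (inOrb codeT 6) (0 + 1 * 20480) 20480 = 3190 := by
  have h : cntLeaves codeT 6 20 20 = 3190 := by decide +kernel
  rw [cntLeaves_eq] at h
  exact h

theorem chk_cnt6_2 : cntF (inOrb codeT 6) (0 + 2 * 20480) 20480 = 8192 := by
  have h : cntLeaves codeT 6 40 20 = 8192 := by decide +kernel
  rw [cntLeaves_eq] at h
  exact h

theorem chk_cnt6_3 : cntF (inOrb codeT 6) (0 + 3 * 20480) 20480 = 8192 := by
  have h : cntLeaves codeT 6 60 20 = 8192 := by decide +kernel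
  rw [cntLeaves_eq] at h
  exact h

theorem chk_cnt6_4 : cntF (inOrb codeT 6) (0 + 4 * 20480) 20480 = 8192 := by
  have h : cntLeaves codeT 6 80 20 = 8192 := by decide +kernel
  rw [cntLeaves_eq] at h
  exact h

theorem chk_cnt6_5 : cntF (inOrb codeT 6) (0 + 5 * 20480) 20480 = 8192 := by
  have h : cntLeaves codeT 6 100 20 = 8192 := by decide +kernel
  rw [cntLeaves_eq] at h
  exact h

theorem chk_cnt6_6 : cntF (inOrb codeT 6) (0 + 6 * 20480) 20480 = 8192 := by
  have h : cntLeaves codeT 6 120 20 = 8192 := by decide +kernel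
  rw [cntLeaves_eq] at h
  exact h

theorem chk_cnt6_7 : cntF (inOrb codeT 6) (0 + 7 * 20480) 20480 = 8192 := by
  have h : cntLeaves codeT 6 140 20 = 8192 := by decide +kernel
  rw [cntLeaves_eq] at h
  exact h

theorem chk_cnt6_8 : cntF (inOrb codeT 6) (0 + 8 * 20480) 20480 = 8192 := by
  have h : cntLeaves codeT 6 160 20 = 8192 := by decide +kernel
  rw [cntLeaves_eq] at h
  exact h

theorem chk_cnt6_9 : cntF (inOrb codeT 6) (0 + 9 * 20480) 20480 = 8192 := by
  have h : cntLeaves codeT 6 180 20 = 8192 := by decide +kernel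
  rw [cntLeaves_eq] at h
  exact h

theorem chk_cnt6_10 : cntF (inOrb codeT 6) (0 + 10 * 20480) 20480 = 8192 := by
  have h : cntLeaves codeT 6 200 20 = 8192 := by decide +kernel
  rw [cntLeaves_eq] at h
  exact h

theorem chk_cnt6_11 : cntF (inOrb codeT 6) (0 + 11 * 20480) 20480 = 8192 := by
  have h : cntLeaves codeT 6 220 20 = 8192 := by decide +kernel
  rw [cntLeaves_eq] at h
  exact h

theorem chk_cnt6_12 : cntF (inOrb codeT 6) (0 + 12 * 20480) 20480 = 8192 := by
  have h : cntLeaves codeT 6 240 20 = 8192 := by decide +kernel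
  rw [cntLeaves_eq] at h
  exact h

theorem chk_cnt6_13 : cntF (inOrb codeT 6) (0 + 13 * 20480) 20480 = 8192 := by
  have h : cntLeaves codeT 6 260 20 = 8192 := by decide +kernel
  rw [cntLeaves_eq] at h
  exact h

theorem chk_cnt6_14 : cntF (inOrb codeT 6) (0 + 14 * 20480) 20480 = 8192 := by
  have h : cntLeaves codeT 6 280 20 = 8192 := by decide +kernel
  rw [cntLeaves_eq] at h
  exact h

theorem chk_cnt6_15 : cntF (inOrb codeT 6) (0 + 15 * 20480) 20480 = 8192 := by
  have h : cntLeaves codeT 6 300 20 = 8192 := by decide +kernel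
  rw [cntLeaves_eq] at h
  exact h

theorem chk_cnt6_16 : cntF (inOrb codeT 6) (0 + 16 * 20480) 20480 = 8192 := by
  have h : cntLeaves codeT 6 320 20 = 8192 := by decide +kernel
  rw [cntLeaves_eq] at h
  exact h

theorem chk_cnt6_17 : cntF (inOrb codeT 6) (0 + 17 * 20480) 20480 = 8192 := by
  have h : cntLeaves codeT 6 340 20 = 8192 := by decide +kernel
  rw [cntLeaves_eq] at h
  exact h

theorem chk_cnt6_18 : cntF (inOrb codeT 6) (0 + 18 * 20480) 20480 = 8192 := by
  have h : cntLeaves codeT 6 360 20 = 8192 := by decide +kernel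
  rw [cntLeaves_eq] at h
  exact h

theorem chk_cnt6_19 : cntF (inOrb codeT 6) (0 + 19 * 20480) 20480 = 8192 := by
  have h : cntLeaves codeT 6 380 20 = 8192 := by decide +kernel
  rw [cntLeaves_eq] at h
  exact h

theorem chk_cnt6_20 : cntF (inOrb codeT 6) (0 + 20 * 20480) 20480 = 8192 := by
  have h : cntLeaves codeT 6 400 20 = 8192 := by decide +kernel
  rw [cntLeaves_eq] at h
  exact h

theorem chk_cnt6_21 : cntF (inOrb codeT 6) (0 + 21 * 20480) 20480 = 8192 := by
  have h : cntLeaves codeT 6 420 20 = 8192 := by decide +kernel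
  rw [cntLeaves_eq] at h
  exact h

theorem chk_cnt6_22 : cntF (inOrb codeT 6) (0 + 22 * 20480) 20480 = 8192 := by
  have h : cntLeaves codeT 6 440 20 = 8192 := by decide +kernel
  rw [cntLeaves_eq] at h
  exact h

theorem chk_cnt6_23 : cntF (inOrb codeT 6) (0 + 23 * 20480) 20480 = 8192 := by
  have h : cntLeaves codeT 6 460 20 = 8192 := by decide +kernel
  rw [cntLeaves_eq] at h
  exact h

theorem chk_cnt6_24 : cntF (inOrb codeT 6) (0 + 24 * 20480) 20480 = 8192 := by
  have h : cntLeaves codeT 6 480 20 = 8192 := by decide +kernel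
  rw [cntLeaves_eq] at h
  exact h

theorem chk_cnt6_25 : cntF (inOrb codeT 6) (0 + 25 * 20480) 20480 = 8192 := by
  have h : cntLeaves codeT 6 500 20 = 8192 := by decide +kernel
  rw [cntLeaves_eq] at h
  exact h

theorem chk_cnt6_26 : cntF (inOrb codeT 6) (0 + 26 * 20480) 20480 = 8192 := by
  have h : cntLeaves codeT 6 520 20 = 8192 := by decide +kernel
  rw [cntLeaves_eq] at h
  exact h

theorem chk_cnt6_27 : cntF (inOrb codeT 6) (0 + 27 * 20480) 20480 = 8192 := by
  have h : cntLeaves codeT 6 540 20 = 8192 := by decide +kernel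
  rw [cntLeaves_eq] at h
  exact h

theorem chk_cnt6_28 : cntF (inOrb codeT 6) (0 + 28 * 20480) 20480 = 8192 := by
  have h : cntLeaves codeT 6 560 20 = 8192 := by decide +kernel
  rw [cntLeaves_eq] at h
  exact h

theorem chk_cnt6_29 : cntF (inOrb codeT 6) (0 + 29 * 20480) 20480 = 8192 := by
  have h : cntLeaves codeT 6 580 20 = 8192 := by decide +kernel
  rw [cntLeaves_eq] at h
  exact h

theorem chk_cnt6_30 : cntF (inOrb codeT 6) (0 + 30 * 20480) 20480 = 8192 := by
  have h : cntLeaves codeT 6 600 20 = 8192 := by decide +kernel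
  rw [cntLeaves_eq] at h
  exact h

theorem chk_cnt6_31 : cntF (inOrb codeT 6) (0 + 31 * 20480) 20480 = 8192 := by
  have h : cntLeaves codeT 6 620 20 = 8192 := by decide +kernel
  rw [cntLeaves_eq] at h
  exact h

theorem chk_cnt6_32 : cntF (inOrb codeT 6) (0 + 32 * 20480) 20480 = 8192 := by
  have h : cntLeaves codeT 6 640 20 = 8192 := by decide +kernel
  rw [cntLeaves_eq] at h
  exact h

theorem chk_cnt6_33 : cntF (inOrb codeT 6) (0 + 33 * 20480) 20480 = 8192 := by
  have h : cntLeaves codeT 6 660 20 = 8192 := by decide +kernel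
  rw [cntLeaves_eq] at h
  exact h

theorem chk_cnt6_34 : cntF (inOrb codeT 6) (0 + 34 * 20480) 20480 = 8192 := by
  have h : cntLeaves codeT 6 680 20 = 8192 := by decide +kernel
  rw [cntLeaves_eq] at h
  exact h

theorem chk_cnt6_35 : cntF (inOrb codeT 6) (0 + 35 * 20480) 20480 = 8192 := by
  have h : cntLeaves codeT 6 700 20 = 8192 := by decide +kernel
  rw [cntLeaves_eq] at h
  exact h

theorem chk_cnt6_36 : cntF (inOrb codeT 6) (0 + 36 * 20480) 20480 = 8192 := by
  have h : cntLeaves codeT 6 720 20 = 8192 := by decide +kernel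
  rw [cntLeaves_eq] at h
  exact h

theorem chk_cnt6_37 : cntF (inOrb codeT 6) (0 + 37 * 20480) 20480 = 8192 := by
  have h : cntLeaves codeT 6 740 20 = 8192 := by decide +kernel
  rw [cntLeaves_eq] at h
  exact h

theorem chk_cnt6_38 : cntF (inOrb codeT 6) (0 + 38 * 20480) 20480 = 8192 := by
  have h : cntLeaves codeT 6 760 20 = 8192 := by decide +kernel
  rw [cntLeaves_eq] at h
  exact h

theorem chk_cnt6_39 : cntF (inOrb codeT 6) (0 + 39 * 20480) 20480 = 8192 := by
  have h : cntLeaves codeT 6 780 20 = 8192 := by decide +kernel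
  rw [cntLeaves_eq] at h
  exact h

theorem chk_cnt6_40 : cntF (inOrb codeT 6) (0 + 40 * 20480) 20480 = 8192 := by
  have h : cntLeaves codeT 6 800 20 = 8192 := by decide +kernel
  rw [cntLeaves_eq] at h
  exact h

theorem chk_cnt6_41 : cntF (inOrb codeT 6) (0 + 41 * 20480) 20480 = 8192 := by
  have h : cntLeaves codeT 6 820 20 = 8192 := by decide +kernel
  rw [cntLeaves_eq] at h
  exact h

theorem chk_cnt6_42 : cntF (inOrb codeT 6) (0 + 42 * 20480) 20480 = 8192 := by
  have h : cntLeaves codeT 6 840 20 = 8192 := by decide +kernel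
  rw [cntLeaves_eq] at h
  exact h

theorem chk_cnt6_43 : cntF (inOrb codeT 6) (0 + 43 * 20480) 20480 = 8192 := by
  have h : cntLeaves codeT 6 860 20 = 8192 := by decide +kernel
  rw [cntLeaves_eq] at h
  exact h

theorem chk_cnt6_44 : cntF (inOrb codeT 6) (0 + 44 * 20480) 20480 = 7562 := by
  have h : cntLeaves codeT 6 880 20 = 7562 := by decide +kernel
  rw [cntLeaves_eq] at h
  exact h

theorem chk_cnt6_45 : cntF (inOrb codeT 6) (0 + 45 * 20480) 20480 = 0 := by
  have h : cntLeaves codeT 6 900 20 = 0 := by decide +kernel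
  rw [cntLeaves_eq] at h
  exact h

theorem chk_cnt6_46 : cntF (inOrb codeT 6) (0 + 46 * 20480) 20480 = 0 := by
  have h : cntLeaves codeT 6 920 20 = 0 := by decide +kernel
  rw [cntLeaves_eq] at h
  exact h

theorem chk_cnt6_47 : cntF (inOrb codeT 6) (0 + 47 * 20480) 20480 = 0 := by
  have h : cntLeaves codeT 6 940 20 = 0 := by decide +kernel
  rw [cntLeaves_eq] at h
  exact h

theorem chk_cnt6_48 : cntF (inOrb codeT 6) (0 + 48 * 20480) 20480 = 0 := by
  have h : cntLeaves codeT 6 960 20 = 0 := by decide +kernel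
  rw [cntLeaves_eq] at h
  exact h

theorem chk_cnt6_49 : cntF (inOrb codeT 6) (0 + 49 * 20480) 20480 = 0 := by
  have h : cntLeaves codeT 6 980 20 = 0 := by decide +kernel
  rw [cntLeaves_eq] at h
  exact h

theorem chk_cnt6_50 : cntF (inOrb codeT 6) (0 + 50 * 20480) 20480 = 0 := by
  have h : cntLeaves codeT 6 1000 20 = 0 := by decide +kernel
  rw [cntLeaves_eq] at h
  exact h

theorem chk_cnt6_51 : cntF (inOrb codeT 6) (0 + 51 * 20480) 20480 = 0 := by
  have h : cntLeaves codeT 6 1020 20 = 0 := by decide +kernel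
  rw [cntLeaves_eq] at h
  exact h

theorem chk_cnt6_52 : cntF (inOrb codeT 6) (0 + 52 * 20480) 20480 = 0 := by
  have h : cntLeaves codeT 6 1040 20 = 0 := by decide +kernel
  rw [cntLeaves_eq] at h
  exact h

theorem chk_cnt6_53 : cntF (inOrb codeT 6) (0 + 53 * 20480) 20480 = 0 := by
  have h : cntLeaves codeT 6 1060 20 = 0 := by decide +kernel
  rw [cntLeaves_eq] at h
  exact h

theorem chk_cnt6_54 : cntF (inOrb codeT 6) (0 + 54 * 20480) 20480 = 0 := by
  have h : cntLeaves codeT 6 1080 20 = 0 := by decide +kernel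
  rw [cntLeaves_eq] at h
  exact h

theorem chk_cnt6_55 : cntF (inOrb codeT 6) (0 + 55 * 20480) 20480 = 0 := by
  have h : cntLeaves codeT 6 1100 20 = 0 := by decide +kernel
  rw [cntLeaves_eq] at h
  exact h

theorem chk_cnt6_56 : cntF (inOrb codeT 6) (0 + 56 * 20480) 20480 = 0 := by
  have h : cntLeaves codeT 6 1120 20 = 0 := by decide +kernel
  rw [cntLeaves_eq] at h
  exact h

theorem chk_cnt6_57 : cntF (inOrb codeT 6) (0 + 57 * 20480) 20480 = 0 := by
  have h : cntLeaves codeT 6 1140 20 = 0 := by decide +kernel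
  rw [cntLeaves_eq] at h
  exact h

theorem chk_cnt6_58 : cntF (inOrb codeT 6) (0 + 58 * 20480) 20480 = 0 := by
  have h : cntLeaves codeT 6 1160 20 = 0 := by decide +kernel
  rw [cntLeaves_eq] at h
  exact h

theorem chk_cnt6_59 : cntF (inOrb codeT 6) (0 + 59 * 20480) 20480 = 0 := by
  have h : cntLeaves codeT 6 1180 20 = 0 := by decide +kernel
  rw [cntLeaves_eq] at h
  exact h

theorem chk_cnt6_60 : cntF (inOrb codeT 6) (0 + 60 * 20480) 20480 = 0 := by
  have h : cntLeaves codeT 6 1200 20 = 0 := by decide +kernel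
  rw [cntLeaves_eq] at h
  exact h

theorem chk_cnt6_61 : cntF (inOrb codeT 6) (0 + 61 * 20480) 20480 = 0 := by
  have h : cntLeaves codeT 6 1220 20 = 0 := by decide +kernel
  rw [cntLeaves_eq] at h
  exact h

theorem chk_cnt6_62 : cntF (inOrb codeT 6) (0 + 62 * 20480) 20480 = 0 := by
  have h : cntLeaves codeT 6 1240 20 = 0 := by decide +kernel
  rw [cntLeaves_eq] at h
  exact h

theorem chk_cnt6_63 : cntF (inOrb codeT 6) (0 + 63 * 20480) 20480 = 0 := by
  have h : cntLeaves codeT 6 1260 20 = 0 := by decide +kernel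
  rw [cntLeaves_eq] at h
  exact h

theorem chk_cnt6_64 : cntF (inOrb codeT 6) (0 + 64 * 20480) 20480 = 0 := by
  have h : cntLeaves codeT 6 1280 20 = 0 := by decide +kernel
  rw [cntLeaves_eq] at h
  exact h

theorem chk_cnt6_65 : cntF (inOrb codeT 6) (0 + 65 * 20480) 20480 = 0 := by
  have h : cntLeaves codeT 6 1300 20 = 0 := by decide +kernel
  rw [cntLeaves_eq] at h
  exact h

theorem chk_cnt6_66 : cntF (inOrb codeT 6) (0 + 66 * 20480) 20480 = 0 := by
  have h : cntLeaves codeT 6 1320 20 = 0 := by decide +kernel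
  rw [cntLeaves_eq] at h
  exact h

theorem chk_cnt6_67 : cntF (inOrb codeT 6) (0 + 67 * 20480) 20480 = 0 := by
  have h : cntLeaves codeT 6 1340 20 = 0 := by decide +kernel
  rw [cntLeaves_eq] at h
  exact h

theorem chk_cnt6_68 : cntF (inOrb codeT 6) (0 + 68 * 20480) 20480 = 0 := by
  have h : cntLeaves codeT 6 1360 20 = 0 := by decide +kernel
  rw [cntLeaves_eq] at h
  exact h

theorem chk_cnt6_69 : cntF (inOrb codeT 6) (0 + 69 * 20480) 20480 = 0 := by
  have h : cntLeaves codeT 6 1380 20 = 0 := by decide +kernel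
  rw [cntLeaves_eq] at h
  exact h

theorem chk_cnt6_70 : cntF (inOrb codeT 6) (0 + 70 * 20480) 20480 = 0 := by
  have h : cntLeaves codeT 6 1400 20 = 0 := by decide +kernel
  rw [cntLeaves_eq] at h
  exact h

theorem chk_cnt6_71 : cntF (inOrb codeT 6) (0 + 71 * 20480) 20480 = 0 := by
  have h : cntLeaves codeT 6 1420 20 = 0 := by decide +kernel
  rw [cntLeaves_eq] at h
  exact h

theorem chk_cnt6_72 : cntF (inOrb codeT 6) (0 + 72 * 20480) 20480 = 0 := by
  have h : cntLeaves codeT 6 1440 20 = 0 := by decide +kernel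
  rw [cntLeaves_eq] at h
  exact h

theorem chk_cnt6_73 : cntF (inOrb codeT 6) (0 + 73 * 20480) 20480 = 0 := by
  have h : cntLeaves codeT 6 1460 20 = 0 := by decide +kernel
  rw [cntLeaves_eq] at h
  exact h

theorem chk_cnt6_74 : cntF (inOrb codeT 6) (0 + 74 * 20480) 20480 = 0 := by
  have h : cntLeaves codeT 6 1480 20 = 0 := by decide +kernel
  rw [cntLeaves_eq] at h
  exact h

theorem chk_cnt6_last : cntF (inOrb codeT 6) (0 + 75 * 20480) 3000 = 0 := by decide +kernel

theorem cnt6 : cntF (inOrb codeT 6) 0 1539000 = 354816 := by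
  have e : (1539000 : ℕ) = ([0, 3190, 8192, 8192, 8192, 8192, 8192, 8192, 8192, 8192, 8192, 8192, 8192, 8192, 8192, 8192, 8192, 8192, 8192, 8192, 8192, 8192, 8192, 8192, 8192, 8192, 8192, 8192, 8192, 8192, 8192, 8192, 8192, 8192, 8192, 8192, 8192, 8192, 8192, 8192, 8192, 8192, 8192, 8192, 7562, 0, 0, 0, 0, 0, 0, 0, 0, 0, 0, 0, 0, 0, 0, 0, 0, 0, 0, 0, 0, 0, 0, 0, 0, 0, 0, 0, 0, 0, 0] : List ℕ).length * 20480 + 3000 := by norm_num
  rw [e, cntF_add, cntF_of_chunks (inOrb codeT 6) 20480 [0, 3190, 8192, 8192, 8192, 8192, 8192, 8192, 8192, 8192, 8192, 8192, 8192, 8192, 8192, 8192, 8192, 8192, 8192, 8192, 8192, 8192, 8192, 8192, 8192, 8192, 8192, 8192, 8192, 8192, 8192, 8192, 8192, 8192, 8192, 8192, 8192, 8192, 8192, 8192, 8192, 8192, 8192, 8192, 7562, 0, 0, 0, 0, 0, 0, 0, 0, 0, 0, 0, 0, 0, 0, 0, 0, 0, 0, 0, 0, 0, 0, 0, 0, 0, 0, 0, 0, 0, 0] 0 ?_]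
  · have e2 : 0 + ([0, 3190, 8192, 8192, 8192, 8192, 8192, 8192, 8192, 8192, 8192, 8192, 8192, 8192, 8192, 8192, 8192, 8192, 8192, 8192, 8192, 8192, 8192, 8192, 8192, 8192, 8192, 8192, 8192, 8192, 8192, 8192, 8192, 8192, 8192, 8192, 8192, 8192, 8192, 8192, 8192, 8192, 8192, 8192, 7562, 0, 0, 0, 0, 0, 0, 0, 0, 0, 0, 0, 0, 0, 0, 0, 0, 0, 0, 0, 0, 0, 0, 0, 0, 0, 0, 0, 0, 0, 0] : List ℕ).length * 20480 = 0 + 75 * 20480 := by norm_num
    rw [e2, chk_cnt6_last]
    norm_num
  · intro k hk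
    have hk' : k < 75 := by simpa using hk
    interval_cases k
    · exact chk_cnt6_0
    · exact chk_cnt6_1
    · exact chk_cnt6_2
    · exact chk_cnt6_3
    · exact chk_cnt6_4
    · exact chk_cnt6_5
    · exact chk_cnt6_6
    · exact chk_cnt6_7
    · exact chk_cnt6_8
    · exact chk_cnt6_9
    · exact chk_cnt6_10
    · exact chk_cnt6_11
    · exact chk_cnt6_12
    · exact chk_cnt6_13
    · exact chk_cnt6_14
    · exact chk_cnt6_15
    · exact chk_cnt6_16
    · exact chk_cnt6_17
    · exact chk_cnt6_18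
    · exact chk_cnt6_19
    · exact chk_cnt6_20
    · exact chk_cnt6_21
    · exact chk_cnt6_22
    · exact chk_cnt6_23
    · exact chk_cnt6_24
    · exact chk_cnt6_25
    · exact chk_cnt6_26
    · exact chk_cnt6_27
    · exact chk_cnt6_28
    · exact chk_cnt6_29
    · exact chk_cnt6_30
    · exact chk_cnt6_31
    · exact chk_cnt6_32
    · exact chk_cnt6_33
    · exact chk_cnt6_34
    · exact chk_cnt6_35
    · exact chk_cnt6_36
    · exact chk_cnt6_37
    · exact chk_cnt6_38
    · exact chk_cnt6_39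
    · exact chk_cnt6_40
    · exact chk_cnt6_41
    · exact chk_cnt6_42
    · exact chk_cnt6_43
    · exact chk_cnt6_44
    · exact chk_cnt6_45
    · exact chk_cnt6_46
    · exact chk_cnt6_47
    · exact chk_cnt6_48
    · exact chk_cnt6_49
    · exact chk_cnt6_50
    · exact chk_cnt6_51
    · exact chk_cnt6_52
    · exact chk_cnt6_53
    · exact chk_cnt6_54
    · exact chk_cnt6_55
    · exact chk_cnt6_56
    · exact chk_cnt6_57
    · exact chk_cnt6_58
    · exact chk_cnt6_59
    · exact chk_cnt6_60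
    · exact chk_cnt6_61
    · exact chk_cnt6_62
    · exact chk_cnt6_63
    · exact chk_cnt6_64
    · exact chk_cnt6_65
    · exact chk_cnt6_66
    · exact chk_cnt6_67
    · exact chk_cnt6_68
    · exact chk_cnt6_69
    · exact chk_cnt6_70
    · exact chk_cnt6_71
    · exact chk_cnt6_72
    · exact chk_cnt6_73
    · exact chk_cnt6_74

end Cfsg.Agent.Lib.Helper5.HNCert
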