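import Cfsg.Agent.Lib.Helper5.HNCert.Code

/-! # generated: certificates of the back end -/

set_option autoImplicit false
set_option maxRecDepth 1000000
set_option maxHeartbeats 40000000

namespace Cfsg.Agent.Lib.Helper5.HNCert

open Cfsg.Agent.Lib.Helper6.TC Cfsg.Agent.Lib.Helper6.NatArr Cfsg.Agent.Lib.Helper5.HNBack Cfsg.Agent.Lib.Lead.HNP.HNTC

theorem chk_cnt7_0 : cntF (inOrb codeT 7) (0 + 0 * 20480) 20480 = 0 := by
  have h : cntLeaves codeT 7 0 20 = 0 := by decide +kernel
  rw [cntLeaves_eq] at h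
  exact h

theorem chk_cnt7_1 : cntF (inOrb codeT 7) (0 + 1 * 20480) 20480 = 0 := by
  have h : cntLeaves codeT 7 20 20 = 0 := by decide +kernel
  rw [cntLeaves_eq] at h
  exact h

theorem chk_cnt7_2 : cntF (inOrb codeT 7) (0 + 2 * 20480) 20480 = 0 := by
  have h : cntLeaves codeT 7 40 20 = 0 := by decide +kernel
  rw [cntLeaves_eq] at h
  exact h

theorem chk_cnt7_3 : cntF (inOrb codeT 7) (0 + 3 * 20480) 20480 = 0 := by
  have h : cntLeaves codeT 7 60 20 = 0 := by decide +kernel
  rw [cntLeaves_eq] at h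
  exact h

theorem chk_cnt7_4 : cntF (inOrb codeT 7) (0 + 4 * 20480) 20480 = 0 := by
  have h : cntLeaves codeT 7 80 20 = 0 := by decide +kernel
  rw [cntLeaves_eq] at h
  exact h

theorem chk_cnt7_5 : cntF (inOrb codeT 7) (0 + 5 * 20480) 20480 = 0 := by
  have h : cntLeaves codeT 7 100 20 = 0 := by decide +kernel
  rw [cntLeaves_eq] at h
  exact h

theorem chk_cnt7_6 : cntF (inOrb codeT 7) (0 + 6 * 20480) 20480 = 0 := by
  have h : cntLeaves codeT 7 120 20 = 0 := by decide +kernel
  rw [cntLeaves_eq] at h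
  exact h

theorem chk_cnt7_7 : cntF (inOrb codeT 7) (0 + 7 * 20480) 20480 = 0 := by
  have h : cntLeaves codeT 7 140 20 = 0 := by decide +kernel
  rw [cntLeaves_eq] at h
  exact h

theorem chk_cnt7_8 : cntF (inOrb codeT 7) (0 + 8 * 20480) 20480 = 0 := by
  have h : cntLeaves codeT 7 160 20 = 0 := by decide +kernel
  rw [cntLeaves_eq] at h
  exact h

theorem chk_cnt7_9 : cntF (inOrb codeT 7) (0 + 9 * 20480) 20480 = 0 := by
  have h : cntLeaves codeT 7 180 20 = 0 := by decide +kernel
  rw [cntLeaves_eq] at h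
  exact h

theorem chk_cnt7_10 : cntF (inOrb codeT 7) (0 + 10 * 20480) 20480 = 0 := by
  have h : cntLeaves codeT 7 200 20 = 0 := by decide +kernel
  rw [cntLeaves_eq] at h
  exact h

theorem chk_cnt7_11 : cntF (inOrb codeT 7) (0 + 11 * 20480) 20480 = 0 := by
  have h : cntLeaves codeT 7 220 20 = 0 := by decide +kernel
  rw [cntLeaves_eq] at h
  exact h

theorem chk_cnt7_12 : cntF (inOrb codeT 7) (0 + 12 * 20480) 20480 = 0 := by
  have h : cntLeaves codeT 7 240 20 = 0 := by decide +kernel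
  rw [cntLeaves_eq] at h
  exact h

theorem chk_cnt7_13 : cntF (inOrb codeT 7) (0 + 13 * 20480) 20480 = 0 := by
  have h : cntLeaves codeT 7 260 20 = 0 := by decide +kernel
  rw [cntLeaves_eq] at h
  exact h

theorem chk_cnt7_14 : cntF (inOrb codeT 7) (0 + 14 * 20480) 20480 = 3435 := by
  have h : cntLeaves codeT 7 280 20 = 3435 := by decide +kernel
  rw [cntLeaves_eq] at h
  exact h

theorem chk_cnt7_15 : cntF (inOrb codeT 7) (0 + 15 * 20480) 20480 = 4096 := by
  have h : cntLeaves codeT 7 300 20 = 4096 := by decide +kernel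
  rw [cntLeaves_eq] at h
  exact h

theorem chk_cnt7_16 : cntF (inOrb codeT 7) (0 + 16 * 20480) 20480 = 4096 := by
  have h : cntLeaves codeT 7 320 20 = 4096 := by decide +kernel
  rw [cntLeaves_eq] at h
  exact h

theorem chk_cnt7_17 : cntF (inOrb codeT 7) (0 + 17 * 20480) 20480 = 4096 := by
  have h : cntLeaves codeT 7 340 20 = 4096 := by decide +kernel
  rw [cntLeaves_eq] at h
  exact h

theorem chk_cnt7_18 : cntF (inOrb codeT 7) (0 + 18 * 20480) 20480 = 4096 := by
  have h : cntLeaves codeT 7 360 20 = 4096 := by decide +kernel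
  rw [cntLeaves_eq] at h
  exact h

theorem chk_cnt7_19 : cntF (inOrb codeT 7) (0 + 19 * 20480) 20480 = 4096 := by
  have h : cntLeaves codeT 7 380 20 = 4096 := by decide +kernel
  rw [cntLeaves_eq] at h
  exact h

theorem chk_cnt7_20 : cntF (inOrb codeT 7) (0 + 20 * 20480) 20480 = 4096 := by
  have h : cntLeaves codeT 7 400 20 = 4096 := by decide +kernel
  rw [cntLeaves_eq] at h
  exact h

theorem chk_cnt7_21 : cntF (inOrb codeT 7) (0 + 21 * 20480) 20480 = 4096 := by
  have h : cntLeaves codeT 7 420 20 = 4096 := by decide +kernel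
  rw [cntLeaves_eq] at h
  exact h

theorem chk_cnt7_22 : cntF (inOrb codeT 7) (0 + 22 * 20480) 20480 = 4096 := by
  have h : cntLeaves codeT 7 440 20 = 4096 := by decide +kernel
  rw [cntLeaves_eq] at h
  exact h

theorem chk_cnt7_23 : cntF (inOrb codeT 7) (0 + 23 * 20480) 20480 = 4096 := by
  have h : cntLeaves codeT 7 460 20 = 4096 := by decide +kernel
  rw [cntLeaves_eq] at h
  exact h

theorem chk_cnt7_24 : cntF (inOrb codeT 7) (0 + 24 * 20480) 20480 = 4096 := by
  have h : cntLeaves codeT 7 480 20 = 4096 := by decide +kernel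
  rw [cntLeaves_eq] at h
  exact h

theorem chk_cnt7_25 : cntF (inOrb codeT 7) (0 + 25 * 20480) 20480 = 4096 := by
  have h : cntLeaves codeT 7 500 20 = 4096 := by decide +kernel
  rw [cntLeaves_eq] at h
  exact h

theorem chk_cnt7_26 : cntF (inOrb codeT 7) (0 + 26 * 20480) 20480 = 4096 := by
  have h : cntLeaves codeT 7 520 20 = 4096 := by decide +kernel
  rw [cntLeaves_eq] at h
  exact h

theorem chk_cnt7_27 : cntF (inOrb codeT 7) (0 + 27 * 20480) 20480 = 4096 := by
  have h : cntLeaves codeT 7 540 20 = 4096 := by decide +kernel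
  rw [cntLeaves_eq] at h
  exact h

theorem chk_cnt7_28 : cntF (inOrb codeT 7) (0 + 28 * 20480) 20480 = 4096 := by
  have h : cntLeaves codeT 7 560 20 = 4096 := by decide +kernel
  rw [cntLeaves_eq] at h
  exact h

theorem chk_cnt7_29 : cntF (inOrb codeT 7) (0 + 29 * 20480) 20480 = 4096 := by
  have h : cntLeaves codeT 7 580 20 = 4096 := by decide +kernel
  rw [cntLeaves_eq] at h
  exact h

theorem chk_cnt7_30 : cntF (inOrb codeT 7) (0 + 30 * 20480) 20480 = 4096 := by
  have h : cntLeaves codeT 7 600 20 = 4096 := by decide +kernel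
  rw [cntLeaves_eq] at h
  exact h

theorem chk_cnt7_31 : cntF (inOrb codeT 7) (0 + 31 * 20480) 20480 = 4096 := by
  have h : cntLeaves codeT 7 620 20 = 4096 := by decide +kernel
  rw [cntLeaves_eq] at h
  exact h

theorem chk_cnt7_32 : cntF (inOrb codeT 7) (0 + 32 * 20480) 20480 = 4096 := by
  have h : cntLeaves codeT 7 640 20 = 4096 := by decide +kernel
  rw [cntLeaves_eq] at h
  exact h

theorem chk_cnt7_33 : cntF (inOrb codeT 7) (0 + 33 * 20480) 20480 = 4096 := by
  have h : cntLeaves codeT 7 660 20 = 4096 := by decide +kernel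
  rw [cntLeaves_eq] at h
  exact h

theorem chk_cnt7_34 : cntF (inOrb codeT 7) (0 + 34 * 20480) 20480 = 4096 := by
  have h : cntLeaves codeT 7 680 20 = 4096 := by decide +kernel
  rw [cntLeaves_eq] at h
  exact h

theorem chk_cnt7_35 : cntF (inOrb codeT 7) (0 + 35 * 20480) 20480 = 4096 := by
  have h : cntLeaves codeT 7 700 20 = 4096 := by decide +kernel
  rw [cntLeaves_eq] at h
  exact h

theorem chk_cnt7_36 : cntF (inOrb codeT 7) (0 + 36 * 20480) 20480 = 4096 := by
  have h : cntLeaves codeT 7 720 20 = 4096 := by decide +kernel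
  rw [cntLeaves_eq] at h
  exact h

theorem chk_cnt7_37 : cntF (inOrb codeT 7) (0 + 37 * 20480) 20480 = 4096 := by
  have h : cntLeaves codeT 7 740 20 = 4096 := by decide +kernel
  rw [cntLeaves_eq] at h
  exact h

theorem chk_cnt7_38 : cntF (inOrb codeT 7) (0 + 38 * 20480) 20480 = 4096 := by
  have h : cntLeaves codeT 7 760 20 = 4096 := by decide +kernel
  rw [cntLeaves_eq] at h
  exact h

theorem chk_cnt7_39 : cntF (inOrb codeT 7) (0 + 39 * 20480) 20480 = 4096 := by
  have h : cntLeaves codeT 7 780 20 = 4096 := by decide +kernel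
  rw [cntLeaves_eq] at h
  exact h

theorem chk_cnt7_40 : cntF (inOrb codeT 7) (0 + 40 * 20480) 20480 = 4096 := by
  have h : cntLeaves codeT 7 800 20 = 4096 := by decide +kernel
  rw [cntLeaves_eq] at h
  exact h

theorem chk_cnt7_41 : cntF (inOrb codeT 7) (0 + 41 * 20480) 20480 = 4096 := by
  have h : cntLeaves codeT 7 820 20 = 4096 := by decide +kernel
  rw [cntLeaves_eq] at h
  exact h

theorem chk_cnt7_42 : cntF (inOrb codeT 7) (0 + 42 * 20480) 20480 = 4096 := by
  have h : cntLeaves codeT 7 840 20 = 4096 := by decide +kernel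
  rw [cntLeaves_eq] at h
  exact h

theorem chk_cnt7_43 : cntF (inOrb codeT 7) (0 + 43 * 20480) 20480 = 4096 := by
  have h : cntLeaves codeT 7 860 20 = 4096 := by decide +kernel
  rw [cntLeaves_eq] at h
  exact h

theorem chk_cnt7_44 : cntF (inOrb codeT 7) (0 + 44 * 20480) 20480 = 4411 := by
  have h : cntLeaves codeT 7 880 20 = 4411 := by decide +kernel
  rw [cntLeaves_eq] at h
  exact h

theorem chk_cnt7_45 : cntF (inOrb codeT 7) (0 + 45 * 20480) 20480 = 8192 := by
  have h : cntLeaves codeT 7 900 20 = 8192 := by decide +kernel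
  rw [cntLeaves_eq] at h
  exact h

theorem chk_cnt7_46 : cntF (inOrb codeT 7) (0 + 46 * 20480) 20480 = 8192 := by
  have h : cntLeaves codeT 7 920 20 = 8192 := by decide +kernel
  rw [cntLeaves_eq] at h
  exact h

theorem chk_cnt7_47 : cntF (inOrb codeT 7) (0 + 47 * 20480) 20480 = 8192 := by
  have h : cntLeaves codeT 7 940 20 = 8192 := by decide +kernel
  rw [cntLeaves_eq] at h
  exact h

theorem chk_cnt7_48 : cntF (inOrb codeT 7) (0 + 48 * 20480) 20480 = 8192 := by
  have h : cntLeaves codeT 7 960 20 = 8192 := by decide +kernel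
  rw [cntLeaves_eq] at h
  exact h

theorem chk_cnt7_49 : cntF (inOrb codeT 7) (0 + 49 * 20480) 20480 = 8192 := by
  have h : cntLeaves codeT 7 980 20 = 8192 := by decide +kernel
  rw [cntLeaves_eq] at h
  exact h

theorem chk_cnt7_50 : cntF (inOrb codeT 7) (0 + 50 * 20480) 20480 = 8192 := by
  have h : cntLeaves codeT 7 1000 20 = 8192 := by decide +kernel
  rw [cntLeaves_eq] at h
  exact h

theorem chk_cnt7_51 : cntF (inOrb codeT 7) (0 + 51 * 20480) 20480 = 8192 := by
  have h : cntLeaves codeT 7 1020 20 = 8192 := by decide +kernel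
  rw [cntLeaves_eq] at h
  exact h

theorem chk_cnt7_52 : cntF (inOrb codeT 7) (0 + 52 * 20480) 20480 = 8192 := by
  have h : cntLeaves codeT 7 1040 20 = 8192 := by decide +kernel
  rw [cntLeaves_eq] at h
  exact h

theorem chk_cnt7_53 : cntF (inOrb codeT 7) (0 + 53 * 20480) 20480 = 8192 := by
  have h : cntLeaves codeT 7 1060 20 = 8192 := by decide +kernel
  rw [cntLeaves_eq] at h
  exact h

theorem chk_cnt7_54 : cntF (inOrb codeT 7) (0 + 54 * 20480) 20480 = 8192 := by
  have h : cntLeaves codeT 7 1080 20 = 8192 := by decide +kernel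
  rw [cntLeaves_eq] at h
  exact h

theorem chk_cnt7_55 : cntF (inOrb codeT 7) (0 + 55 * 20480) 20480 = 8192 := by
  have h : cntLeaves codeT 7 1100 20 = 8192 := by decide +kernel
  rw [cntLeaves_eq] at h
  exact h

theorem chk_cnt7_56 : cntF (inOrb codeT 7) (0 + 56 * 20480) 20480 = 8192 := by
  have h : cntLeaves codeT 7 1120 20 = 8192 := by decide +kernel
  rw [cntLeaves_eq] at h
  exact h

theorem chk_cnt7_57 : cntF (inOrb codeT 7) (0 + 57 * 20480) 20480 = 8192 := by
  have h : cntLeaves codeT 7 1140 20 = 8192 := by decide +kernel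
  rw [cntLeaves_eq] at h
  exact h

theorem chk_cnt7_58 : cntF (inOrb codeT 7) (0 + 58 * 20480) 20480 = 8192 := by
  have h : cntLeaves codeT 7 1160 20 = 8192 := by decide +kernel
  rw [cntLeaves_eq] at h
  exact h

theorem chk_cnt7_59 : cntF (inOrb codeT 7) (0 + 59 * 20480) 20480 = 8192 := by
  have h : cntLeaves codeT 7 1180 20 = 8192 := by decide +kernel
  rw [cntLeaves_eq] at h
  exact h

theorem chk_cnt7_60 : cntF (inOrb codeT 7) (0 + 60 * 20480) 20480 = 2490 := by
  have h : cntLeaves codeT 7 1200 20 = 2490 := by decide +kernel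
  rw [cntLeaves_eq] at h
  exact h

theorem chk_cnt7_61 : cntF (inOrb codeT 7) (0 + 61 * 20480) 20480 = 0 := by
  have h : cntLeaves codeT 7 1220 20 = 0 := by decide +kernel
  rw [cntLeaves_eq] at h
  exact h

theorem chk_cnt7_62 : cntF (inOrb codeT 7) (0 + 62 * 20480) 20480 = 0 := by
  have h : cntLeaves codeT 7 1240 20 = 0 := by decide +kernel
  rw [cntLeaves_eq] at h
  exact h

theorem chk_cnt7_63 : cntF (inOrb codeT 7) (0 + 63 * 20480) 20480 = 0 := by
  have h : cntLeaves codeT 7 1260 20 = 0 := by decide +kernel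
  rw [cntLeaves_eq] at h
  exact h

theorem chk_cnt7_64 : cntF (inOrb codeT 7) (0 + 64 * 20480) 20480 = 0 := by
  have h : cntLeaves codeT 7 1280 20 = 0 := by decide +kernel
  rw [cntLeaves_eq] at h
  exact h

theorem chk_cnt7_65 : cntF (inOrb codeT 7) (0 + 65 * 20480) 20480 = 0 := by
  have h : cntLeaves codeT 7 1300 20 = 0 := by decide +kernel
  rw [cntLeaves_eq] at h
  exact h

theorem chk_cnt7_66 : cntF (inOrb codeT 7) (0 + 66 * 20480) 20480 = 0 := by
  have h : cntLeaves codeT 7 1320 20 = 0 := by decide +kernel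
  rw [cntLeaves_eq] at h
  exact h

theorem chk_cnt7_67 : cntF (inOrb codeT 7) (0 + 67 * 20480) 20480 = 0 := by
  have h : cntLeaves codeT 7 1340 20 = 0 := by decide +kernel
  rw [cntLeaves_eq] at h
  exact h

theorem chk_cnt7_68 : cntF (inOrb codeT 7) (0 + 68 * 20480) 20480 = 0 := by
  have h : cntLeaves codeT 7 1360 20 = 0 := by decide +kernel
  rw [cntLeaves_eq] at h
  exact h

theorem chk_cnt7_69 : cntF (inOrb codeT 7) (0 + 69 * 20480) 20480 = 0 := by
  have h : cntLeaves codeT 7 1380 20 = 0 := by decide +kernel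
  rw [cntLeaves_eq] at h
  exact h

theorem chk_cnt7_70 : cntF (inOrb codeT 7) (0 + 70 * 20480) 20480 = 0 := by
  have h : cntLeaves codeT 7 1400 20 = 0 := by decide +kernel
  rw [cntLeaves_eq] at h
  exact h

theorem chk_cnt7_71 : cntF (inOrb codeT 7) (0 + 71 * 20480) 20480 = 0 := by
  have h : cntLeaves codeT 7 1420 20 = 0 := by decide +kernel
  rw [cntLeaves_eq] at h
  exact h

theorem chk_cnt7_72 : cntF (inOrb codeT 7) (0 + 72 * 20480) 20480 = 0 := by
  have h : cntLeaves codeT 7 1440 20 = 0 := by decide +kernel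
  rw [cntLeaves_eq] at h
  exact h

theorem chk_cnt7_73 : cntF (inOrb codeT 7) (0 + 73 * 20480) 20480 = 2245 := by
  have h : cntLeaves codeT 7 1460 20 = 2245 := by decide +kernel
  rw [cntLeaves_eq] at h
  exact h

theorem chk_cnt7_74 : cntF (inOrb codeT 7) (0 + 74 * 20480) 20480 = 20480 := by
  have h : cntLeaves codeT 7 1480 20 = 20480 := by decide +kernel
  rw [cntLeaves_eq] at h
  exact h

theorem chk_cnt7_last : cntF (inOrb codeT 7) (0 + 75 * 20480) 3000 = 2475 := by decide +kernel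

theorem cnt7 : cntF (inOrb codeT 7) 0 1539000 = 277200 := by
  have e : (1539000 : ℕ) = ([0, 0, 0, 0, 0, 0, 0, 0, 0, 0, 0, 0, 0, 0, 3435, 4096, 4096, 4096, 4096, 4096, 4096, 4096, 4096, 4096, 4096, 4096, 4096, 4096, 4096, 4096, 4096, 4096, 4096, 4096, 4096, 4096, 4096, 4096, 4096, 4096, 4096, 4096, 4096, 4096, 4411, 8192, 8192, 8192, 8192, 8192, 8192, 8192, 8192, 8192, 8192, 8192, 8192, 8192, 8192, 8192, 2490, 0, 0, 0, 0, 0, 0, 0, 0, 0, 0, 0, 0, 2245, 20480] : List ℕ).length * 20480 + 3000 := by norm_num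
  rw [e, cntF_add, cntF_of_chunks (inOrb codeT 7) 20480 [0, 0, 0, 0, 0, 0, 0, 0, 0, 0, 0, 0, 0, 0, 3435, 4096, 4096, 4096, 4096, 4096, 4096, 4096, 4096, 4096, 4096, 4096, 4096, 4096, 4096, 4096, 4096, 4096, 4096, 4096, 4096, 4096, 4096, 4096, 4096, 4096, 4096, 4096, 4096, 4096, 4411, 8192, 8192, 8192, 8192, 8192, 8192, 8192, 8192, 8192, 8192, 8192, 8192, 8192, 8192, 8192, 2490, 0, 0, 0, 0, 0, 0, 0, 0, 0, 0, 0, 0, 2245, 20480] 0 ?_]
  · have e2 : 0 + ([0, 0, 0, 0, 0, 0, 0, 0, 0, 0, 0, 0, 0, 0, 3435, 4096, 4096, 4096, 4096, 4096, 4096, 4096, 4096, 4096, 4096, 4096, 4096, 4096, 4096, 4096, 4096, 4096, 4096, 4096, 4096, 4096, 4096, 4096, 4096, 4096, 4096, 4096, 4096, 4096, 4411, 8192, 8192, 8192, 8192, 8192, 8192, 8192, 8192, 8192, 8192, 8192, 8192, 8192, 8192, 8192, 2490, 0, 0, 0, 0, 0, 0, 0, 0, 0, 0, 0, 0, 2245, 20480] : List ℕ).length * 20480 = 0 + 75 * 20480 := by norm_num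
    rw [e2, chk_cnt7_last]
    norm_num
  · intro k hk
    have hk' : k < 75 := by simpa using hk
    interval_cases k
    · exact chk_cnt7_0
    · exact chk_cnt7_1
    · exact chk_cnt7_2
    · exact chk_cnt7_3
    · exact chk_cnt7_4
    · exact chk_cnt7_5
    · exact chk_cnt7_6
    · exact chk_cnt7_7
    · exact chk_cnt7_8
    · exact chk_cnt7_9
    · exact chk_cnt7_10
    · exact chk_cnt7_11
    · exact chk_cnt7_12
    · exact chk_cnt7_13
    · exact chk_cnt7_14
    · exact chk_cnt7_15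
    · exact chk_cnt7_16
    · exact chk_cnt7_17
    · exact chk_cnt7_18
    · exact chk_cnt7_19
    · exact chk_cnt7_20
    · exact chk_cnt7_21
    · exact chk_cnt7_22
    · exact chk_cnt7_23
    · exact chk_cnt7_24
    · exact chk_cnt7_25
    · exact chk_cnt7_26
    · exact chk_cnt7_27
    · exact chk_cnt7_28
    · exact chk_cnt7_29
    · exact chk_cnt7_30
    · exact chk_cnt7_31
    · exact chk_cnt7_32
    · exact chk_cnt7_33
    · exact chk_cnt7_34
    · exact chk_cnt7_35
    · exact chk_cnt7_36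
    · exact chk_cnt7_37
    · exact chk_cnt7_38
    · exact chk_cnt7_39
    · exact chk_cnt7_40
    · exact chk_cnt7_41
    · exact chk_cnt7_42
    · exact chk_cnt7_43
    · exact chk_cnt7_44
    · exact chk_cnt7_45
    · exact chk_cnt7_46
    · exact chk_cnt7_47
    · exact chk_cnt7_48
    · exact chk_cnt7_49
    · exact chk_cnt7_50
    · exact chk_cnt7_51
    · exact chk_cnt7_52
    · exact chk_cnt7_53
    · exact chk_cnt7_54
    · exact chk_cnt7_55
    · exact chk_cnt7_56
    · exact chk_cnt7_57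
    · exact chk_cnt7_58
    · exact chk_cnt7_59
    · exact chk_cnt7_60
    · exact chk_cnt7_61
    · exact chk_cnt7_62
    · exact chk_cnt7_63
    · exact chk_cnt7_64
    · exact chk_cnt7_65
    · exact chk_cnt7_66
    · exact chk_cnt7_67
    · exact chk_cnt7_68
    · exact chk_cnt7_69
    · exact chk_cnt7_70
    · exact chk_cnt7_71
    · exact chk_cnt7_72
    · exact chk_cnt7_73
    · exact chk_cnt7_74

end Cfsg.Agent.Lib.Helper5.HNCert
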