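import Cfsg.Agent.Lib.Helper5.HNCert.Code

/-! # generated: certificates of the back end -/

set_option autoImplicit false
set_option maxRecDepth 1000000
set_option maxHeartbeats 40000000

namespace Cfsg.Agent.Lib.Helper5.HNCert

open Cfsg.Agent.Lib.Helper6.TC Cfsg.Agent.Lib.Helper6.NatArr Cfsg.Agent.Lib.Helper5.HNBack Cfsg.Agent.Lib.Lead.HNP.HNTC

theorem chk_cnt8_0 : cntF (inOrb codeT 8) (0 + 0 * 20480) 20480 = 0 := by
  have h : cntLeaves codeT 8 0 20 = 0 := by decide +kernel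
  rw [cntLeaves_eq] at h
  exact h

theorem chk_cnt8_1 : cntF (inOrb codeT 8) (0 + 1 * 20480) 20480 = 0 := by
  have h : cntLeaves codeT 8 20 20 = 0 := by decide +kernel
  rw [cntLeaves_eq] at h
  exact h

theorem chk_cnt8_2 : cntF (inOrb codeT 8) (0 + 2 * 20480) 20480 = 0 := by
  have h : cntLeaves codeT 8 40 20 = 0 := by decide +kernel
  rw [cntLeaves_eq] at h
  exact h

theorem chk_cnt8_3 : cntF (inOrb codeT 8) (0 + 3 * 20480) 20480 = 0 := by
  have h : cntLeaves codeT 8 60 20 = 0 := by decide +kernel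
  rw [cntLeaves_eq] at h
  exact h

theorem chk_cnt8_4 : cntF (inOrb codeT 8) (0 + 4 * 20480) 20480 = 0 := by
  have h : cntLeaves codeT 8 80 20 = 0 := by decide +kernel
  rw [cntLeaves_eq] at h
  exact h

theorem chk_cnt8_5 : cntF (inOrb codeT 8) (0 + 5 * 20480) 20480 = 0 := by
  have h : cntLeaves codeT 8 100 20 = 0 := by decide +kernel
  rw [cntLeaves_eq] at h
  exact h

theorem chk_cnt8_6 : cntF (inOrb codeT 8) (0 + 6 * 20480) 20480 = 0 := by
  have h : cntLeaves codeT 8 120 20 = 0 := by decide +kernel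
  rw [cntLeaves_eq] at h
  exact h

theorem chk_cnt8_7 : cntF (inOrb codeT 8) (0 + 7 * 20480) 20480 = 0 := by
  have h : cntLeaves codeT 8 140 20 = 0 := by decide +kernel
  rw [cntLeaves_eq] at h
  exact h

theorem chk_cnt8_8 : cntF (inOrb codeT 8) (0 + 8 * 20480) 20480 = 0 := by
  have h : cntLeaves codeT 8 160 20 = 0 := by decide +kernel
  rw [cntLeaves_eq] at h
  exact h

theorem chk_cnt8_9 : cntF (inOrb codeT 8) (0 + 9 * 20480) 20480 = 0 := by
  have h : cntLeaves codeT 8 180 20 = 0 := by decide +kernel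
  rw [cntLeaves_eq] at h
  exact h

theorem chk_cnt8_10 : cntF (inOrb codeT 8) (0 + 10 * 20480) 20480 = 0 := by
  have h : cntLeaves codeT 8 200 20 = 0 := by decide +kernel
  rw [cntLeaves_eq] at h
  exact h

theorem chk_cnt8_11 : cntF (inOrb codeT 8) (0 + 11 * 20480) 20480 = 0 := by
  have h : cntLeaves codeT 8 220 20 = 0 := by decide +kernel
  rw [cntLeaves_eq] at h
  exact h

theorem chk_cnt8_12 : cntF (inOrb codeT 8) (0 + 12 * 20480) 20480 = 0 := by
  have h : cntLeaves codeT 8 240 20 = 0 := by decide +kernel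
  rw [cntLeaves_eq] at h
  exact h

theorem chk_cnt8_13 : cntF (inOrb codeT 8) (0 + 13 * 20480) 20480 = 0 := by
  have h : cntLeaves codeT 8 260 20 = 0 := by decide +kernel
  rw [cntLeaves_eq] at h
  exact h

theorem chk_cnt8_14 : cntF (inOrb codeT 8) (0 + 14 * 20480) 20480 = 0 := by
  have h : cntLeaves codeT 8 280 20 = 0 := by decide +kernel
  rw [cntLeaves_eq] at h
  exact h

theorem chk_cnt8_15 : cntF (inOrb codeT 8) (0 + 15 * 20480) 20480 = 0 := by
  have h : cntLeaves codeT 8 300 20 = 0 := by decide +kernel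
  rw [cntLeaves_eq] at h
  exact h

theorem chk_cnt8_16 : cntF (inOrb codeT 8) (0 + 16 * 20480) 20480 = 0 := by
  have h : cntLeaves codeT 8 320 20 = 0 := by decide +kernel
  rw [cntLeaves_eq] at h
  exact h

theorem chk_cnt8_17 : cntF (inOrb codeT 8) (0 + 17 * 20480) 20480 = 0 := by
  have h : cntLeaves codeT 8 340 20 = 0 := by decide +kernel
  rw [cntLeaves_eq] at h
  exact h

theorem chk_cnt8_18 : cntF (inOrb codeT 8) (0 + 18 * 20480) 20480 = 0 := by
  have h : cntLeaves codeT 8 360 20 = 0 := by decide +kernel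
  rw [cntLeaves_eq] at h
  exact h

theorem chk_cnt8_19 : cntF (inOrb codeT 8) (0 + 19 * 20480) 20480 = 0 := by
  have h : cntLeaves codeT 8 380 20 = 0 := by decide +kernel
  rw [cntLeaves_eq] at h
  exact h

theorem chk_cnt8_20 : cntF (inOrb codeT 8) (0 + 20 * 20480) 20480 = 0 := by
  have h : cntLeaves codeT 8 400 20 = 0 := by decide +kernel
  rw [cntLeaves_eq] at h
  exact h

theorem chk_cnt8_21 : cntF (inOrb codeT 8) (0 + 21 * 20480) 20480 = 0 := by
  have h : cntLeaves codeT 8 420 20 = 0 := by decide +kernel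
  rw [cntLeaves_eq] at h
  exact h

theorem chk_cnt8_22 : cntF (inOrb codeT 8) (0 + 22 * 20480) 20480 = 0 := by
  have h : cntLeaves codeT 8 440 20 = 0 := by decide +kernel
  rw [cntLeaves_eq] at h
  exact h

theorem chk_cnt8_23 : cntF (inOrb codeT 8) (0 + 23 * 20480) 20480 = 0 := by
  have h : cntLeaves codeT 8 460 20 = 0 := by decide +kernel
  rw [cntLeaves_eq] at h
  exact h

theorem chk_cnt8_24 : cntF (inOrb codeT 8) (0 + 24 * 20480) 20480 = 0 := by
  have h : cntLeaves codeT 8 480 20 = 0 := by decide +kernel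
  rw [cntLeaves_eq] at h
  exact h

theorem chk_cnt8_25 : cntF (inOrb codeT 8) (0 + 25 * 20480) 20480 = 0 := by
  have h : cntLeaves codeT 8 500 20 = 0 := by decide +kernel
  rw [cntLeaves_eq] at h
  exact h

theorem chk_cnt8_26 : cntF (inOrb codeT 8) (0 + 26 * 20480) 20480 = 0 := by
  have h : cntLeaves codeT 8 520 20 = 0 := by decide +kernel
  rw [cntLeaves_eq] at h
  exact h

theorem chk_cnt8_27 : cntF (inOrb codeT 8) (0 + 27 * 20480) 20480 = 0 := by
  have h : cntLeaves codeT 8 540 20 = 0 := by decide +kernel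
  rw [cntLeaves_eq] at h
  exact h

theorem chk_cnt8_28 : cntF (inOrb codeT 8) (0 + 28 * 20480) 20480 = 0 := by
  have h : cntLeaves codeT 8 560 20 = 0 := by decide +kernel
  rw [cntLeaves_eq] at h
  exact h

theorem chk_cnt8_29 : cntF (inOrb codeT 8) (0 + 29 * 20480) 20480 = 0 := by
  have h : cntLeaves codeT 8 580 20 = 0 := by decide +kernel
  rw [cntLeaves_eq] at h
  exact h

theorem chk_cnt8_30 : cntF (inOrb codeT 8) (0 + 30 * 20480) 20480 = 0 := by
  have h : cntLeaves codeT 8 600 20 = 0 := by decide +kernel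
  rw [cntLeaves_eq] at h
  exact h

theorem chk_cnt8_31 : cntF (inOrb codeT 8) (0 + 31 * 20480) 20480 = 0 := by
  have h : cntLeaves codeT 8 620 20 = 0 := by decide +kernel
  rw [cntLeaves_eq] at h
  exact h

theorem chk_cnt8_32 : cntF (inOrb codeT 8) (0 + 32 * 20480) 20480 = 0 := by
  have h : cntLeaves codeT 8 640 20 = 0 := by decide +kernel
  rw [cntLeaves_eq] at h
  exact h

theorem chk_cnt8_33 : cntF (inOrb codeT 8) (0 + 33 * 20480) 20480 = 0 := by
  have h : cntLeaves codeT 8 660 20 = 0 := by decide +kernel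
  rw [cntLeaves_eq] at h
  exact h

theorem chk_cnt8_34 : cntF (inOrb codeT 8) (0 + 34 * 20480) 20480 = 0 := by
  have h : cntLeaves codeT 8 680 20 = 0 := by decide +kernel
  rw [cntLeaves_eq] at h
  exact h

theorem chk_cnt8_35 : cntF (inOrb codeT 8) (0 + 35 * 20480) 20480 = 0 := by
  have h : cntLeaves codeT 8 700 20 = 0 := by decide +kernel
  rw [cntLeaves_eq] at h
  exact h

theorem chk_cnt8_36 : cntF (inOrb codeT 8) (0 + 36 * 20480) 20480 = 0 := by
  have h : cntLeaves codeT 8 720 20 = 0 := by decide +kernel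
  rw [cntLeaves_eq] at h
  exact h

theorem chk_cnt8_37 : cntF (inOrb codeT 8) (0 + 37 * 20480) 20480 = 0 := by
  have h : cntLeaves codeT 8 740 20 = 0 := by decide +kernel
  rw [cntLeaves_eq] at h
  exact h

theorem chk_cnt8_38 : cntF (inOrb codeT 8) (0 + 38 * 20480) 20480 = 0 := by
  have h : cntLeaves codeT 8 760 20 = 0 := by decide +kernel
  rw [cntLeaves_eq] at h
  exact h

theorem chk_cnt8_39 : cntF (inOrb codeT 8) (0 + 39 * 20480) 20480 = 0 := by
  have h : cntLeaves codeT 8 780 20 = 0 := by decide +kernel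
  rw [cntLeaves_eq] at h
  exact h

theorem chk_cnt8_40 : cntF (inOrb codeT 8) (0 + 40 * 20480) 20480 = 0 := by
  have h : cntLeaves codeT 8 800 20 = 0 := by decide +kernel
  rw [cntLeaves_eq] at h
  exact h

theorem chk_cnt8_41 : cntF (inOrb codeT 8) (0 + 41 * 20480) 20480 = 0 := by
  have h : cntLeaves codeT 8 820 20 = 0 := by decide +kernel
  rw [cntLeaves_eq] at h
  exact h

theorem chk_cnt8_42 : cntF (inOrb codeT 8) (0 + 42 * 20480) 20480 = 0 := by
  have h : cntLeaves codeT 8 840 20 = 0 := by decide +kernel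
  rw [cntLeaves_eq] at h
  exact h

theorem chk_cnt8_43 : cntF (inOrb codeT 8) (0 + 43 * 20480) 20480 = 0 := by
  have h : cntLeaves codeT 8 860 20 = 0 := by decide +kernel
  rw [cntLeaves_eq] at h
  exact h

theorem chk_cnt8_44 : cntF (inOrb codeT 8) (0 + 44 * 20480) 20480 = 0 := by
  have h : cntLeaves codeT 8 880 20 = 0 := by decide +kernel
  rw [cntLeaves_eq] at h
  exact h

theorem chk_cnt8_45 : cntF (inOrb codeT 8) (0 + 45 * 20480) 20480 = 0 := by
  have h : cntLeaves codeT 8 900 20 = 0 := by decide +kernel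
  rw [cntLeaves_eq] at h
  exact h

theorem chk_cnt8_46 : cntF (inOrb codeT 8) (0 + 46 * 20480) 20480 = 0 := by
  have h : cntLeaves codeT 8 920 20 = 0 := by decide +kernel
  rw [cntLeaves_eq] at h
  exact h

theorem chk_cnt8_47 : cntF (inOrb codeT 8) (0 + 47 * 20480) 20480 = 0 := by
  have h : cntLeaves codeT 8 940 20 = 0 := by decide +kernel
  rw [cntLeaves_eq] at h
  exact h

theorem chk_cnt8_48 : cntF (inOrb codeT 8) (0 + 48 * 20480) 20480 = 0 := by
  have h : cntLeaves codeT 8 960 20 = 0 := by decide +kernel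
  rw [cntLeaves_eq] at h
  exact h

theorem chk_cnt8_49 : cntF (inOrb codeT 8) (0 + 49 * 20480) 20480 = 0 := by
  have h : cntLeaves codeT 8 980 20 = 0 := by decide +kernel
  rw [cntLeaves_eq] at h
  exact h

theorem chk_cnt8_50 : cntF (inOrb codeT 8) (0 + 50 * 20480) 20480 = 0 := by
  have h : cntLeaves codeT 8 1000 20 = 0 := by decide +kernel
  rw [cntLeaves_eq] at h
  exact h

theorem chk_cnt8_51 : cntF (inOrb codeT 8) (0 + 51 * 20480) 20480 = 0 := by
  have h : cntLeaves codeT 8 1020 20 = 0 := by decide +kernel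
  rw [cntLeaves_eq] at h
  exact h

theorem chk_cnt8_52 : cntF (inOrb codeT 8) (0 + 52 * 20480) 20480 = 0 := by
  have h : cntLeaves codeT 8 1040 20 = 0 := by decide +kernel
  rw [cntLeaves_eq] at h
  exact h

theorem chk_cnt8_53 : cntF (inOrb codeT 8) (0 + 53 * 20480) 20480 = 0 := by
  have h : cntLeaves codeT 8 1060 20 = 0 := by decide +kernel
  rw [cntLeaves_eq] at h
  exact h

theorem chk_cnt8_54 : cntF (inOrb codeT 8) (0 + 54 * 20480) 20480 = 0 := by
  have h : cntLeaves codeT 8 1080 20 = 0 := by decide +kernel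
  rw [cntLeaves_eq] at h
  exact h

theorem chk_cnt8_55 : cntF (inOrb codeT 8) (0 + 55 * 20480) 20480 = 0 := by
  have h : cntLeaves codeT 8 1100 20 = 0 := by decide +kernel
  rw [cntLeaves_eq] at h
  exact h

theorem chk_cnt8_56 : cntF (inOrb codeT 8) (0 + 56 * 20480) 20480 = 0 := by
  have h : cntLeaves codeT 8 1120 20 = 0 := by decide +kernel
  rw [cntLeaves_eq] at h
  exact h

theorem chk_cnt8_57 : cntF (inOrb codeT 8) (0 + 57 * 20480) 20480 = 0 := by
  have h : cntLeaves codeT 8 1140 20 = 0 := by decide +kernel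
  rw [cntLeaves_eq] at h
  exact h

theorem chk_cnt8_58 : cntF (inOrb codeT 8) (0 + 58 * 20480) 20480 = 0 := by
  have h : cntLeaves codeT 8 1160 20 = 0 := by decide +kernel
  rw [cntLeaves_eq] at h
  exact h

theorem chk_cnt8_59 : cntF (inOrb codeT 8) (0 + 59 * 20480) 20480 = 0 := by
  have h : cntLeaves codeT 8 1180 20 = 0 := by decide +kernel
  rw [cntLeaves_eq] at h
  exact h

theorem chk_cnt8_60 : cntF (inOrb codeT 8) (0 + 60 * 20480) 20480 = 2851 := by
  have h : cntLeaves codeT 8 1200 20 = 2851 := by decide +kernel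
  rw [cntLeaves_eq] at h
  exact h

theorem chk_cnt8_61 : cntF (inOrb codeT 8) (0 + 61 * 20480) 20480 = 2399 := by
  have h : cntLeaves codeT 8 1220 20 = 2399 := by decide +kernel
  rw [cntLeaves_eq] at h
  exact h

theorem chk_cnt8_62 : cntF (inOrb codeT 8) (0 + 62 * 20480) 20480 = 0 := by
  have h : cntLeaves codeT 8 1240 20 = 0 := by decide +kernel
  rw [cntLeaves_eq] at h
  exact h

theorem chk_cnt8_63 : cntF (inOrb codeT 8) (0 + 63 * 20480) 20480 = 0 := by
  have h : cntLeaves codeT 8 1260 20 = 0 := by decide +kernel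
  rw [cntLeaves_eq] at h
  exact h

theorem chk_cnt8_64 : cntF (inOrb codeT 8) (0 + 64 * 20480) 20480 = 0 := by
  have h : cntLeaves codeT 8 1280 20 = 0 := by decide +kernel
  rw [cntLeaves_eq] at h
  exact h

theorem chk_cnt8_65 : cntF (inOrb codeT 8) (0 + 65 * 20480) 20480 = 0 := by
  have h : cntLeaves codeT 8 1300 20 = 0 := by decide +kernel
  rw [cntLeaves_eq] at h
  exact h

theorem chk_cnt8_66 : cntF (inOrb codeT 8) (0 + 66 * 20480) 20480 = 0 := by
  have h : cntLeaves codeT 8 1320 20 = 0 := by decide +kernel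
  rw [cntLeaves_eq] at h
  exact h

theorem chk_cnt8_67 : cntF (inOrb codeT 8) (0 + 67 * 20480) 20480 = 0 := by
  have h : cntLeaves codeT 8 1340 20 = 0 := by decide +kernel
  rw [cntLeaves_eq] at h
  exact h

theorem chk_cnt8_68 : cntF (inOrb codeT 8) (0 + 68 * 20480) 20480 = 0 := by
  have h : cntLeaves codeT 8 1360 20 = 0 := by decide +kernel
  rw [cntLeaves_eq] at h
  exact h

theorem chk_cnt8_69 : cntF (inOrb codeT 8) (0 + 69 * 20480) 20480 = 0 := by
  have h : cntLeaves codeT 8 1380 20 = 0 := by decide +kernel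
  rw [cntLeaves_eq] at h
  exact h

theorem chk_cnt8_70 : cntF (inOrb codeT 8) (0 + 70 * 20480) 20480 = 0 := by
  have h : cntLeaves codeT 8 1400 20 = 0 := by decide +kernel
  rw [cntLeaves_eq] at h
  exact h

theorem chk_cnt8_71 : cntF (inOrb codeT 8) (0 + 71 * 20480) 20480 = 0 := by
  have h : cntLeaves codeT 8 1420 20 = 0 := by decide +kernel
  rw [cntLeaves_eq] at h
  exact h

theorem chk_cnt8_72 : cntF (inOrb codeT 8) (0 + 72 * 20480) 20480 = 0 := by
  have h : cntLeaves codeT 8 1440 20 = 0 := by decide +kernel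
  rw [cntLeaves_eq] at h
  exact h

theorem chk_cnt8_73 : cntF (inOrb codeT 8) (0 + 73 * 20480) 20480 = 0 := by
  have h : cntLeaves codeT 8 1460 20 = 0 := by decide +kernel
  rw [cntLeaves_eq] at h
  exact h

theorem chk_cnt8_74 : cntF (inOrb codeT 8) (0 + 74 * 20480) 20480 = 0 := by
  have h : cntLeaves codeT 8 1480 20 = 0 := by decide +kernel
  rw [cntLeaves_eq] at h
  exact h

theorem chk_cnt8_last : cntF (inOrb codeT 8) (0 + 75 * 20480) 3000 = 525 := by decide +kernel

theorem cnt8 : cntF (inOrb codeT 8) 0 1539000 = 5775 := by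
  have e : (1539000 : ℕ) = ([0, 0, 0, 0, 0, 0, 0, 0, 0, 0, 0, 0, 0, 0, 0, 0, 0, 0, 0, 0, 0, 0, 0, 0, 0, 0, 0, 0, 0, 0, 0, 0, 0, 0, 0, 0, 0, 0, 0, 0, 0, 0, 0, 0, 0, 0, 0, 0, 0, 0, 0, 0, 0, 0, 0, 0, 0, 0, 0, 0, 2851, 2399, 0, 0, 0, 0, 0, 0, 0, 0, 0, 0, 0, 0, 0] : List ℕ).length * 20480 + 3000 := by norm_num
  rw [e, cntF_add, cntF_of_chunks (inOrb codeT 8) 20480 [0, 0, 0, 0, 0, 0, 0, 0, 0, 0, 0, 0, 0, 0, 0, 0, 0, 0, 0, 0, 0, 0, 0, 0, 0, 0, 0, 0, 0, 0, 0, 0, 0, 0, 0, 0, 0, 0, 0, 0, 0, 0, 0, 0, 0, 0, 0, 0, 0, 0, 0, 0, 0, 0, 0, 0, 0, 0, 0, 0, 2851, 2399, 0, 0, 0, 0, 0, 0, 0, 0, 0, 0, 0, 0, 0] 0 ?_]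
  · have e2 : 0 + ([0, 0, 0, 0, 0, 0, 0, 0, 0, 0, 0, 0, 0, 0, 0, 0, 0, 0, 0, 0, 0, 0, 0, 0, 0, 0, 0, 0, 0, 0, 0, 0, 0, 0, 0, 0, 0, 0, 0, 0, 0, 0, 0, 0, 0, 0, 0, 0, 0, 0, 0, 0, 0, 0, 0, 0, 0, 0, 0, 0, 2851, 2399, 0, 0, 0, 0, 0, 0, 0, 0, 0, 0, 0, 0, 0] : List ℕ).length * 20480 = 0 + 75 * 20480 := by norm_num
    rw [e2, chk_cnt8_last]
    norm_num
  · intro k hk
    have hk' : k < 75 := by simpa using hk
    interval_cases k
    · exact chk_cnt8_0
    · exact chk_cnt8_1
    · exact chk_cnt8_2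
    · exact chk_cnt8_3
    · exact chk_cnt8_4
    · exact chk_cnt8_5
    · exact chk_cnt8_6
    · exact chk_cnt8_7
    · exact chk_cnt8_8
    · exact chk_cnt8_9
    · exact chk_cnt8_10
    · exact chk_cnt8_11
    · exact chk_cnt8_12
    · exact chk_cnt8_13
    · exact chk_cnt8_14
    · exact chk_cnt8_15
    · exact chk_cnt8_16
    · exact chk_cnt8_17
    · exact chk_cnt8_18
    · exact chk_cnt8_19
    · exact chk_cnt8_20
    · exact chk_cnt8_21
    · exact chk_cnt8_22
    · exact chk_cnt8_23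
    · exact chk_cnt8_24
    · exact chk_cnt8_25
    · exact chk_cnt8_26
    · exact chk_cnt8_27
    · exact chk_cnt8_28
    · exact chk_cnt8_29
    · exact chk_cnt8_30
    · exact chk_cnt8_31
    · exact chk_cnt8_32
    · exact chk_cnt8_33
    · exact chk_cnt8_34
    · exact chk_cnt8_35
    · exact chk_cnt8_36
    · exact chk_cnt8_37
    · exact chk_cnt8_38
    · exact chk_cnt8_39
    · exact chk_cnt8_40
    · exact chk_cnt8_41
    · exact chk_cnt8_42
    · exact chk_cnt8_43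
    · exact chk_cnt8_44
    · exact chk_cnt8_45
    · exact chk_cnt8_46
    · exact chk_cnt8_47
    · exact chk_cnt8_48
    · exact chk_cnt8_49
    · exact chk_cnt8_50
    · exact chk_cnt8_51
    · exact chk_cnt8_52
    · exact chk_cnt8_53
    · exact chk_cnt8_54
    · exact chk_cnt8_55
    · exact chk_cnt8_56
    · exact chk_cnt8_57
    · exact chk_cnt8_58
    · exact chk_cnt8_59
    · exact chk_cnt8_60
    · exact chk_cnt8_61
    · exact chk_cnt8_62
    · exact chk_cnt8_63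
    · exact chk_cnt8_64
    · exact chk_cnt8_65
    · exact chk_cnt8_66
    · exact chk_cnt8_67
    · exact chk_cnt8_68
    · exact chk_cnt8_69
    · exact chk_cnt8_70
    · exact chk_cnt8_71
    · exact chk_cnt8_72
    · exact chk_cnt8_73
    · exact chk_cnt8_74

end Cfsg.Agent.Lib.Helper5.HNCert
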