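import Cfsg.Agent.Lib.Helper5.HNCert.Code

/-! # generated: certificates of the back end -/

set_option autoImplicit false
set_option maxRecDepth 1000000
set_option maxHeartbeats 40000000

namespace Cfsg.Agent.Lib.Helper5.HNCert

open Cfsg.Agent.Lib.Helper6.TC Cfsg.Agent.Lib.Helper6.NatArr Cfsg.Agent.Lib.Helper5.HNBack Cfsg.Agent.Lib.Lead.HNP.HNTC

/-- the words of order 19 -/
def us : List (List ℕ) := [[3, 4, 3, 3, 0, 2, 7, 4], [7, 2, 1, 2, 0, 7, 5, 6, 2, 2, 6, 5], [7, 2, 1, 2, 0, 7, 5, 6, 2, 2, 6, 5], [5, 6, 6, 3, 7, 3, 4, 3, 5, 1, 3, 0, 3], [7, 3, 1, 6, 5, 7, 5, 0, 3, 4, 3, 7], [7, 3, 1, 6, 5, 7, 5, 0, 3, 4, 3, 7], [5, 5, 5, 7, 2, 2, 5, 5, 0, 3], [4, 2, 4, 6, 3, 0, 2, 0]]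

theorem chk_gen : genOK tab us 19 [1134369, 4006, 0] = true := by decide +kernel

end Cfsg.Agent.Lib.Helper5.HNCert
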