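import Cfsg.Agent.Lib.Helper5.HNCert.Code

/-! # generated: certificates of the back end -/

set_option autoImplicit false
set_option maxRecDepth 1000000
set_option maxHeartbeats 40000000

namespace Cfsg.Agent.Lib.Helper5.HNCert

open Cfsg.Agent.Lib.Helper6.TC Cfsg.Agent.Lib.Helper6.NatArr Cfsg.Agent.Lib.Helper5.HNBack Cfsg.Agent.Lib.Lead.HNP.HNTC

/-- the words of the second level -/
def ws2 : List (List ℕ) := [[2, 2, 2, 0, 2, 2, 4, 2, 4, 2, 4, 2, 2, 0, 2, 1, 3, 3, 5, 3, 5, 1, 2, 2, 1], [2, 4, 3, 4, 3, 3, 0, 3, 0, 2, 0, 2, 0, 2, 2, 5, 3, 3, 0, 3, 3, 1, 2, 5, 3, 3, 1, 3, 3, 3]]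

/-- the steps of the orbit of the second level -/
def I2 : List ℕ := [18149904, 18149905, 22627872, 22627873, 10923040, 17953264, 17953265, 10440800, 9391600, 9391601, 21065008, 21065009, 10472320, 6973760, 6973761, 13011808, 13011809, 21202272, 18389184, 18389185, 11501424, 7650320, 7650321, 9858560, 9858561, 19539664, 7892864, 7892865, 18917344, 17241504, 17241505, 20514128, 20514129, 8197648, 5472528, 5472529, 8268608, 8268609, 23852784, 7455280, 7455281, 21476976, 23538224, 23538225, 9438881, 20518608, 23595184, 23595185, 20928128, 20928129, 13297040, 19690464, 19690465, 8785520, 12136464, 12136465, 7238944, 7238945, 19175424, 12987184, 12987185, 17920704, 15370224, 15370225, 12750225, 15231424, 17317984, 17317985, 16281344, 16281345, 14169024, 19455184, 19455185, 19623264, 5185600, 17336705, 6055584, 9400240, 9400241, 20245152, 20245153, 9721120, 11493760, 11493761, 8118800, 8118801, 20425360, 9939840, 20944448, 20503488, 20503489, 9730849, 21531760, 23106800, 23106801, 20795360, 20795361, 6463488, 21490160, 21490161, 23451552, 5747760, 22035729, 7551600, 6577680, 6577681,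 23082609, 12377360, 23885824, 23885825, 6034688, 5283280, 5283281, 7414688, 23732944, 15710704, 15710705, 13469344, 11053344, 11053345, 11049344, 11049345, 19524464, 6452144, 18281584, 18299744, 18299745, 11917361, 18115504, 18121505, 5982704, 18183024, 18183025, 17290784, 14260560, 15850305, 14078384, 10042000, 10042001, 19662465, 9243760, 15441824, 7908560, 13312144, 13312145, 8285024, 17743584, 6893200, 6893201, 16085345, 9440544, 8516704, 8516705, 15402224, 5641281, 16083184, 24154673, 12372560, 7839328, 7839329, 13132720, 13132721, 23312112, 9270688, 20954752, 22996896, 22996897, 23118192, 13148240, 20562608, 6845360, 6845361, 22275217, 10160768, 21079168, 11433248, 9643040, 9643041, 12268880, 23596576, 12024689, 22028161, 7550801, 23798480, 14662209, 22032128, 10575329, 20592832, 11816881, 9151969, 22538288, 20568240, 20825328, 5184640, 5466704, 9016384, 9016385, 16696304, 13865264, 17557584, 17557585, 15299984, 11450320, 17841904, 10605664, 17022864, 9394240, 18687104, 13516945, 18580145, 10784545, 15874224, 12183425, 18578704, 14806624, 17919024, 17919025, 17127104, 17127105,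 15441025, 18324705, 13346848, 14026768, 14026769, 6075920, 22021569, 13007840, 23295248, 7838208, 20268624, 7185488, 21140913, 5902401, 22259601, 21387825, 10913760, 8006321, 15207104, 16048625]

theorem chk_fix2 : fixOK tab ws2 [4006, 0] = true := by decide +kernel

theorem chk_orb2 : listOrbOK tab ws2 I2 1134369 240 = true := by decide +kernel

end Cfsg.Agent.Lib.Helper5.HNCert
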