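import Cfsg.Agent.Lib.Helper5.HNCert.Reach
import Cfsg.Agent.Lib.Helper5.HNCert.Lvl2
import Cfsg.Agent.Lib.Helper5.HNCert.Gen
import Cfsg.Agent.Lib.Helper5.HNCert.Cnt1
import Cfsg.Agent.Lib.Helper5.HNCert.Cnt2
import Cfsg.Agent.Lib.Helper5.HNCert.Cnt3
import Cfsg.Agent.Lib.Helper5.HNCert.Cnt4
import Cfsg.Agent.Lib.Helper5.HNCert.Cnt5
import Cfsg.Agent.Lib.Helper5.HNCert.Cnt6
import Cfsg.Agent.Lib.Helper5.HNCert.Cnt7
import Cfsg.Agent.Lib.Helper5.HNCert.Cnt8
import Cfsg.Agent.Lib.Helper5.HNCert.Hub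

/-! # generated: certificates of the back end -/

set_option autoImplicit false
set_option maxRecDepth 1000000
set_option maxHeartbeats 40000000

namespace Cfsg.Agent.Lib.Helper5.HNCert

open Cfsg.Agent.Lib.Helper6.TC Cfsg.Agent.Lib.Helper6.NatArr Cfsg.Agent.Lib.Helper5.HNBack Cfsg.Agent.Lib.Lead.HNP.HNTC

theorem chk_o : orbOf codeT 0 = 0 := by decide +kernel

theorem chk_ivl : ivlOK tab.g ivs subW ivl = true := by decide +kernel

/-- **the presented group is simple of the expected order** -/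
theorem main : IsSimpleGroup Cfsg.Spor.HN ∧ Nat.card Cfsg.Spor.HN = 273030912000000 := by
  refine simple_card_of_back Cfsg.Agent.Lib.Lead.HNP.HNTC.data hub chk_ivl chk_reach chk_o (by decide +kernel) (r := 8) (by decide +kernel) ![1408, 35200, 2200, 123200, 739200, 354816, 277200, 5775] ?_ ?_
    ⟨4, by norm_num⟩ (b1 := 4006) (by decide +kernel) (by show 4006 < 1539000; norm_num) (b2 := 1134369) (m2 := 240) (by show 1134369 < 1539000; norm_num)
    chk_fix2 chk_orb2 (by show 1539000 * (739200 * 240) = 273030912000000; norm_num) (by norm_num) (us := us) (p := 19) chk_gen ?_ (by show 1 < 1539000; norm_num)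
  · intro i
    fin_cases i
    · exact cnt1
    · exact cnt2
    · exact cnt3
    · exact cnt4
    · exact cnt5
    · exact cnt6
    · exact cnt7
    · exact cnt8
  · show ∀ I : Finset (Fin 8), I.Nonempty → (1 + ∑ i ∈ I, ![1408, 35200, 2200, 123200, 739200, 354816, 277200, 5775] i) ∣ 1539000 →
      1 + ∑ i ∈ I, ![1408, 35200, 2200, 123200, 739200, 354816, 277200, 5775] i = 1539000
    decide +kernel
  · show (273030912000000 / 1539000).Coprime 19
    norm_num

end Cfsg.Agent.Lib.Helper5.HNCert
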