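import Cfsg.Agent.Lib.Helper5.HNGlue.HNCard
import Cfsg.Agent.Lib.Lead.HNP.Der35
import Cfsg.Agent.Lib.Lead.HNP.VT
import Cfsg.Agent.Lib.Lead.HNP.PV
import Cfsg.Agent.Lib.Lead.HNP.HNTC

/-! # The upper bound `|HN| ≤ 1539000 · 44352 · 4000` from the four checked coset enumerations -/

set_option autoImplicit false

namespace Cfsg.Agent.Lib.Helper5.HNCert

open Cfsg.Agent.Lib.Helper5.HNGlue Cfsg.Agent.Lib.Lead.HNP

/-- the presented Harada–Norton group is finite of order at most `273030912000000` -/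
theorem hub : Finite Cfsg.Spor.HN ∧ Nat.card Cfsg.Spor.HN ≤ 273030912000000 := by
  obtain ⟨hf, hc⟩ := card_HN_le QB.data VT.data PV.data HNTC.data rfl rfl rfl one_lt_QB
    QB.chk_side QB.chk_vrel
  refine ⟨hf, hc.trans ?_⟩
  show 1539000 * (44352 * 4000) ≤ 273030912000000
  norm_num

end Cfsg.Agent.Lib.Helper5.HNCert
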