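import Cfsg.Agent.Lib.Helper5.HNCert.Code

/-! # generated: certificates of the back end -/

set_option autoImplicit false
set_option maxRecDepth 1000000
set_option maxHeartbeats 40000000

namespace Cfsg.Agent.Lib.Helper5.HNCert

open Cfsg.Agent.Lib.Helper6.TC Cfsg.Agent.Lib.Helper6.NatArr Cfsg.Agent.Lib.Helper5.HNBack Cfsg.Agent.Lib.Lead.HNP.HNTC

theorem chk_reach10 : reachOKc tab ivl rootsN codeT (Nat.mul 10 20000) 20000 = true := by decide +kernel

theorem chk_reach11 : reachOKc tab ivl rootsN codeT (Nat.mul 11 20000) 20000 = true := by decide +kernel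

theorem chk_reach12 : reachOKc tab ivl rootsN codeT (Nat.mul 12 20000) 20000 = true := by decide +kernel

theorem chk_reach13 : reachOKc tab ivl rootsN codeT (Nat.mul 13 20000) 20000 = true := by decide +kernel

theorem chk_reach14 : reachOKc tab ivl rootsN codeT (Nat.mul 14 20000) 20000 = true := by decide +kernel

theorem chk_reach15 : reachOKc tab ivl rootsN codeT (Nat.mul 15 20000) 20000 = true := by decide +kernel

theorem chk_reach16 : reachOKc tab ivl rootsN codeT (Nat.mul 16 20000) 20000 = true := by decide +kernel

theorem chk_reach17 : reachOKc tab ivl rootsN codeT (Nat.mul 17 20000) 20000 = true := by decide +kernel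

theorem chk_reach18 : reachOKc tab ivl rootsN codeT (Nat.mul 18 20000) 20000 = true := by decide +kernel

theorem chk_reach19 : reachOKc tab ivl rootsN codeT (Nat.mul 19 20000) 20000 = true := by decide +kernel


end Cfsg.Agent.Lib.Helper5.HNCert
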