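import Cfsg.Agent.Lib.Helper5.HNCert.Code

/-! # generated: certificates of the back end -/

set_option autoImplicit false
set_option maxRecDepth 1000000
set_option maxHeartbeats 40000000

namespace Cfsg.Agent.Lib.Helper5.HNCert

open Cfsg.Agent.Lib.Helper6.TC Cfsg.Agent.Lib.Helper6.NatArr Cfsg.Agent.Lib.Helper5.HNBack Cfsg.Agent.Lib.Lead.HNP.HNTC

theorem chk_reach20 : reachOKc tab ivl rootsN codeT (Nat.mul 20 20000) 20000 = true := by decide +kernel

theorem chk_reach21 : reachOKc tab ivl rootsN codeT (Nat.mul 21 20000) 20000 = true := by decide +kernel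

theorem chk_reach22 : reachOKc tab ivl rootsN codeT (Nat.mul 22 20000) 20000 = true := by decide +kernel

theorem chk_reach23 : reachOKc tab ivl rootsN codeT (Nat.mul 23 20000) 20000 = true := by decide +kernel

theorem chk_reach24 : reachOKc tab ivl rootsN codeT (Nat.mul 24 20000) 20000 = true := by decide +kernel

theorem chk_reach25 : reachOKc tab ivl rootsN codeT (Nat.mul 25 20000) 20000 = true := by decide +kernel

theorem chk_reach26 : reachOKc tab ivl rootsN codeT (Nat.mul 26 20000) 20000 = true := by decide +kernel

theorem chk_reach27 : reachOKc tab ivl rootsN codeT (Nat.mul 27 20000) 20000 = true := by decide +kernel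

theorem chk_reach28 : reachOKc tab ivl rootsN codeT (Nat.mul 28 20000) 20000 = true := by decide +kernel

theorem chk_reach29 : reachOKc tab ivl rootsN codeT (Nat.mul 29 20000) 20000 = true := by decide +kernel


end Cfsg.Agent.Lib.Helper5.HNCert
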