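import Cfsg.Agent.Lib.Helper5.HNCert.Code

/-! # generated: certificates of the back end -/

set_option autoImplicit false
set_option maxRecDepth 1000000
set_option maxHeartbeats 40000000

namespace Cfsg.Agent.Lib.Helper5.HNCert

open Cfsg.Agent.Lib.Helper6.TC Cfsg.Agent.Lib.Helper6.NatArr Cfsg.Agent.Lib.Helper5.HNBack Cfsg.Agent.Lib.Lead.HNP.HNTC

theorem chk_reach30 : reachOKc tab ivl rootsN codeT (Nat.mul 30 20000) 20000 = true := by decide +kernel

theorem chk_reach31 : reachOKc tab ivl rootsN codeT (Nat.mul 31 20000) 20000 = true := by decide +kernel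

theorem chk_reach32 : reachOKc tab ivl rootsN codeT (Nat.mul 32 20000) 20000 = true := by decide +kernel

theorem chk_reach33 : reachOKc tab ivl rootsN codeT (Nat.mul 33 20000) 20000 = true := by decide +kernel

theorem chk_reach34 : reachOKc tab ivl rootsN codeT (Nat.mul 34 20000) 20000 = true := by decide +kernel

theorem chk_reach35 : reachOKc tab ivl rootsN codeT (Nat.mul 35 20000) 20000 = true := by decide +kernel

theorem chk_reach36 : reachOKc tab ivl rootsN codeT (Nat.mul 36 20000) 20000 = true := by decide +kernel

theorem chk_reach37 : reachOKc tab ivl rootsN codeT (Nat.mul 37 20000) 20000 = true := by decide +kernel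

theorem chk_reach38 : reachOKc tab ivl rootsN codeT (Nat.mul 38 20000) 20000 = true := by decide +kernel

theorem chk_reach39 : reachOKc tab ivl rootsN codeT (Nat.mul 39 20000) 20000 = true := by decide +kernel


end Cfsg.Agent.Lib.Helper5.HNCert
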