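import Cfsg.Agent.Lib.Helper5.HNCert.Code

/-! # generated: certificates of the back end -/

set_option autoImplicit false
set_option maxRecDepth 1000000
set_option maxHeartbeats 40000000

namespace Cfsg.Agent.Lib.Helper5.HNCert

open Cfsg.Agent.Lib.Helper6.TC Cfsg.Agent.Lib.Helper6.NatArr Cfsg.Agent.Lib.Helper5.HNBack Cfsg.Agent.Lib.Lead.HNP.HNTC

theorem chk_reach50 : reachOKc tab ivl rootsN codeT (Nat.mul 50 20000) 20000 = true := by decide +kernel

theorem chk_reach51 : reachOKc tab ivl rootsN codeT (Nat.mul 51 20000) 20000 = true := by decide +kernel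

theorem chk_reach52 : reachOKc tab ivl rootsN codeT (Nat.mul 52 20000) 20000 = true := by decide +kernel

theorem chk_reach53 : reachOKc tab ivl rootsN codeT (Nat.mul 53 20000) 20000 = true := by decide +kernel

theorem chk_reach54 : reachOKc tab ivl rootsN codeT (Nat.mul 54 20000) 20000 = true := by decide +kernel

theorem chk_reach55 : reachOKc tab ivl rootsN codeT (Nat.mul 55 20000) 20000 = true := by decide +kernel

theorem chk_reach56 : reachOKc tab ivl rootsN codeT (Nat.mul 56 20000) 20000 = true := by decide +kernel

theorem chk_reach57 : reachOKc tab ivl rootsN codeT (Nat.mul 57 20000) 20000 = true := by decide +kernel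

theorem chk_reach58 : reachOKc tab ivl rootsN codeT (Nat.mul 58 20000) 20000 = true := by decide +kernel

theorem chk_reach59 : reachOKc tab ivl rootsN codeT (Nat.mul 59 20000) 20000 = true := by decide +kernel


end Cfsg.Agent.Lib.Helper5.HNCert
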