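import Cfsg.Agent.Lib.Helper5.HNCert.Code

/-! # generated: certificates of the back end -/

set_option autoImplicit false
set_option maxRecDepth 1000000
set_option maxHeartbeats 40000000

namespace Cfsg.Agent.Lib.Helper5.HNCert

open Cfsg.Agent.Lib.Helper6.TC Cfsg.Agent.Lib.Helper6.NatArr Cfsg.Agent.Lib.Helper5.HNBack Cfsg.Agent.Lib.Lead.HNP.HNTC

theorem chk_reach60 : reachOKc tab ivl rootsN codeT (Nat.mul 60 20000) 20000 = true := by decide +kernel

theorem chk_reach61 : reachOKc tab ivl rootsN codeT (Nat.mul 61 20000) 20000 = true := by decide +kernel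

theorem chk_reach62 : reachOKc tab ivl rootsN codeT (Nat.mul 62 20000) 20000 = true := by decide +kernel

theorem chk_reach63 : reachOKc tab ivl rootsN codeT (Nat.mul 63 20000) 20000 = true := by decide +kernel

theorem chk_reach64 : reachOKc tab ivl rootsN codeT (Nat.mul 64 20000) 20000 = true := by decide +kernel

theorem chk_reach65 : reachOKc tab ivl rootsN codeT (Nat.mul 65 20000) 20000 = true := by decide +kernel

theorem chk_reach66 : reachOKc tab ivl rootsN codeT (Nat.mul 66 20000) 20000 = true := by decide +kernel

theorem chk_reach67 : reachOKc tab ivl rootsN codeT (Nat.mul 67 20000) 20000 = true := by decide +kernel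

theorem chk_reach68 : reachOKc tab ivl rootsN codeT (Nat.mul 68 20000) 20000 = true := by decide +kernel

theorem chk_reach69 : reachOKc tab ivl rootsN codeT (Nat.mul 69 20000) 20000 = true := by decide +kernel


end Cfsg.Agent.Lib.Helper5.HNCert
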