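import Cfsg.Agent.Lib.Helper5.HNCert.Reach0
import Cfsg.Agent.Lib.Helper5.HNCert.Reach1
import Cfsg.Agent.Lib.Helper5.HNCert.Reach2
import Cfsg.Agent.Lib.Helper5.HNCert.Reach3
import Cfsg.Agent.Lib.Helper5.HNCert.Reach4
import Cfsg.Agent.Lib.Helper5.HNCert.Reach5
import Cfsg.Agent.Lib.Helper5.HNCert.Reach6
import Cfsg.Agent.Lib.Helper5.HNCert.Reach7

/-! # generated: certificates of the back end -/

set_option autoImplicit false
set_option maxRecDepth 1000000
set_option maxHeartbeats 40000000

namespace Cfsg.Agent.Lib.Helper5.HNCert

open Cfsg.Agent.Lib.Helper6.TC Cfsg.Agent.Lib.Helper6.NatArr Cfsg.Agent.Lib.Helper5.HNBack Cfsg.Agent.Lib.Lead.HNP.HNTC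

theorem chk_reach : reachOK tab ivl rootsN codeT = true := by
  refine reachOK_of_chunks _ _ _ _ 20000 77 (by norm_num) (by show 1539000 ≤ 77 * 20000; norm_num) ?_
  intro k hk
  interval_cases k
  · exact chk_reach0
  · exact chk_reach1
  · exact chk_reach2
  · exact chk_reach3
  · exact chk_reach4
  · exact chk_reach5
  · exact chk_reach6
  · exact chk_reach7
  · exact chk_reach8
  · exact chk_reach9
  · exact chk_reach10
  · exact chk_reach11
  · exact chk_reach12
  · exact chk_reach13
  · exact chk_reach14
  · exact chk_reach15
  · exact chk_reach16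
  · exact chk_reach17
  · exact chk_reach18
  · exact chk_reach19
  · exact chk_reach20
  · exact chk_reach21
  · exact chk_reach22
  · exact chk_reach23
  · exact chk_reach24
  · exact chk_reach25
  · exact chk_reach26
  · exact chk_reach27
  · exact chk_reach28
  · exact chk_reach29
  · exact chk_reach30
  · exact chk_reach31
  · exact chk_reach32
  · exact chk_reach33
  · exact chk_reach34
  · exact chk_reach35
  · exact chk_reach36
  · exact chk_reach37
  · exact chk_reach38
  · exact chk_reach39
  · exact chk_reach40
  · exact chk_reach41
  · exact chk_reach42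
  · exact chk_reach43
  · exact chk_reach44
  · exact chk_reach45
  · exact chk_reach46
  · exact chk_reach47
  · exact chk_reach48
  · exact chk_reach49
  · exact chk_reach50
  · exact chk_reach51
  · exact chk_reach52
  · exact chk_reach53
  · exact chk_reach54
  · exact chk_reach55
  · exact chk_reach56
  · exact chk_reach57
  · exact chk_reach58
  · exact chk_reach59
  · exact chk_reach60
  · exact chk_reach61
  · exact chk_reach62
  · exact chk_reach63
  · exact chk_reach64
  · exact chk_reach65
  · exact chk_reach66
  · exact chk_reach67
  · exact chk_reach68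
  · exact chk_reach69
  · exact chk_reach70
  · exact chk_reach71
  · exact chk_reach72
  · exact chk_reach73
  · exact chk_reach74
  · exact chk_reach75
  · exact chk_reach76

end Cfsg.Agent.Lib.Helper5.HNCert
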