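import Cfsg.Agent.Lib.Helper5.HNCert.Code

/-! # generated: certificates of the back end -/

set_option autoImplicit false
set_option maxRecDepth 1000000
set_option maxHeartbeats 40000000

namespace Cfsg.Agent.Lib.Helper5.HNCert

open Cfsg.Agent.Lib.Helper6.TC Cfsg.Agent.Lib.Helper6.NatArr Cfsg.Agent.Lib.Helper5.HNBack Cfsg.Agent.Lib.Lead.HNP.HNTC

theorem chk_reach0 : reachOKc tab ivl rootsN codeT (Nat.mul 0 20000) 20000 = true := by decide +kernel

theorem chk_reach1 : reachOKc tab ivl rootsN codeT (Nat.mul 1 20000) 20000 = true := by decide +kernel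

theorem chk_reach2 : reachOKc tab ivl rootsN codeT (Nat.mul 2 20000) 20000 = true := by decide +kernel

theorem chk_reach3 : reachOKc tab ivl rootsN codeT (Nat.mul 3 20000) 20000 = true := by decide +kernel

theorem chk_reach4 : reachOKc tab ivl rootsN codeT (Nat.mul 4 20000) 20000 = true := by decide +kernel

theorem chk_reach5 : reachOKc tab ivl rootsN codeT (Nat.mul 5 20000) 20000 = true := by decide +kernel

theorem chk_reach6 : reachOKc tab ivl rootsN codeT (Nat.mul 6 20000) 20000 = true := by decide +kernel

theorem chk_reach7 : reachOKc tab ivl rootsN codeT (Nat.mul 7 20000) 20000 = true := by decide +kernel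

theorem chk_reach8 : reachOKc tab ivl rootsN codeT (Nat.mul 8 20000) 20000 = true := by decide +kernel

theorem chk_reach9 : reachOKc tab ivl rootsN codeT (Nat.mul 9 20000) 20000 = true := by decide +kernel


end Cfsg.Agent.Lib.Helper5.HNCert
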